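import Cfsg.Agent.Lib.Leech.Sec5.Tables
import Cfsg.Agent.Lib.Leech.Co1Cent.KerTables

/-!
# Tests on words
-/

set_option autoImplicit false
set_option maxRecDepth 100000
set_option maxHeartbeats 4000000
set_option Elab.async false

namespace Cfsg.Agent.Leech.Sec5

open Cfsg Matrix Cfsg.Agent.Reflections Cfsg.Agent.Leech.Co1Cent
open Cfsg.Agent.Golay (idx pt toSet octadO)

/-- The three generators. -/
def genW (k : Fin 3) : List Step := [aW, g1W, g2W].getD k.val []

/-- The word of a pair in the kernel. -/
def kW (i : Fin 16) (j : Fin 32) : List Step := [some (tabN i, maskN j)]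

/-- A permutation of the kernel. -/
def kTab (i : Fin 16) : List ℕ := kTabs.getD i.val []

/-- A code word of the kernel. -/
def kMask (j : Fin 32) : ℕ := kMasks.getD j.val 0

/-- An entry of the matrix of the element of order five. -/
def aEnt (p q : ℕ) : ℤ := (aImg.getD p []).getD q 0

/-- A sign. -/
def sgnB (b : Bool) (x : ℤ) : ℤ := if b then -x else x

/-- The pair commutes with the element of order five. -/
def cK (i : Fin 16) (j : Fin 32) : Bool :=
  (List.range 24).reverse.all fun p => (List.range 24).reverse.all fun q =>
    sgnB ((kMask j).testBit q) (aEnt p ((kTab i).getD q 0)) ==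
      sgnB ((kMask j).testBit ((kTab i).getD p 0)) (aEnt ((kTab i).getD p 0) q)

end Cfsg.Agent.Leech.Sec5
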