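import Cfsg.Agent.Lib.Leech.Sec5.Tables
import Cfsg.Agent.Lib.Leech.Sec5.WordDefs

/-!
# Kernel-checked identities between words
-/

set_option autoImplicit false
set_option maxRecDepth 100000
set_option maxHeartbeats 4000000
set_option Elab.async false

namespace Cfsg.Agent.Leech.Sec5

open Cfsg Matrix Cfsg.Agent.Reflections Cfsg.Agent.Leech.Co1Cent
open Cfsg.Agent.Golay (idx pt toSet octadO)

theorem kTab_eq : ∀ i : Fin 16, tabN i = kTab i := by
  have h : tabs6 = kTabs := by decide +kernel
  intro i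
  rw [tabN, kTab, h]

theorem kMask_eq : ∀ j : Fin 32, maskN j = kMask j := by
  have h : maskF = kMasks := by decide +kernel
  intro j
  rw [maskN, kMask, h]

theorem aImg_eq : ∀ p : Fin 24, vecL (evalL aW (frameL p.val)) = vecL (aImg.getD p.val []) := by
  have h : (List.range 24).all (fun p => forceL (frameL p) fun v =>
      evalK aW v fun a => a == aImg.getD p []) = true := by decide +kernel
  intro p
  have := List.all_eq_true.1 h p.val (List.mem_range.2 p.isLt)
  rw [forceL_eq, evalK_eq] at this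
  rw [eq_of_beq this]

theorem gen_ok0 : aW.all okStep = true ∧ aW.all okC = true := by decide +kernel

theorem gen_ok1 : g1W.all okStep = true ∧ g1W.all okC = true := by decide +kernel

theorem gen_comm1 : sameW (g1W ++ aW) (aW ++ g1W) = true := by decide +kernel

theorem gen_ok2 : g2W.all okStep = true ∧ g2W.all okC = true := by decide +kernel

theorem gen_comm2 : sameW (g2W ++ aW) (aW ++ g2W) = true := by decide +kernel

theorem a_five : sameW (aW ++ aW ++ aW ++ aW ++ aW) [] = true := by decide +kernel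

theorem a_ne : vecL (evalL aW (frameL 23)) (pt 23) ≠ 8 := by decide +kernel

theorem tau_ok : tauW.all okStep = true ∧ sameW (tauW ++ aW) (aW ++ tauW) = true := by
  decide +kernel

theorem tau_octad : ∃ j : Fin 32, maskN j = maskP ∧ maskN j ≠ 0 ∧ maskN j ≠ ocMask ∧
    ∀ i : Fin 16, tabN i = Golay.idTab → cK i j = true ∧
      sameW (tauW ++ [some (Golay.idTab, octadO)]) (kW i j ++ tauW) = true := by
  simp only [kW, kTab_eq, kMask_eq]
  decide +kernel

theorem kernel_facts :
    ((Finset.univ : Finset (Fin 16 × Fin 32)).filter fun x => cK x.1 x.2 = true).card = 32 := by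
  decide +kernel

theorem move_facts : ∃ i : Fin 16, ∃ j : Fin 32, ∃ i' : Fin 16, ∃ j' : Fin 32,
    cK i j = true ∧ cK i' j' = true ∧
    sameW (genW 1 ++ kW i j) (kW i' j' ++ genW 1) = true ∧
    (tabN i' = tabN i → maskN j' ≠ maskN j ∧ maskN j' ≠ maskN j ^^^ ocMask) := by
  obtain ⟨i, hi, j, hj, i', hi', j', hj'⟩ :
      ∃ i, tabN i = moveA.1 ∧ ∃ j, maskN j = moveA.2 ∧
      ∃ i', tabN i' = moveB.1 ∧ ∃ j', maskN j' = moveB.2 := by
    have h : (∃ i, tabN i = moveA.1) ∧ (∃ j, maskN j = moveA.2) ∧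
        (∃ i', tabN i' = moveB.1) ∧ ∃ j', maskN j' = moveB.2 := by
      simp only [kTab_eq, kMask_eq]
      decide +kernel
    obtain ⟨⟨i, hi⟩, ⟨j, hj⟩, ⟨i', hi'⟩, j', hj'⟩ := h
    exact ⟨i, hi, j, hj, i', hi', j', hj'⟩
  refine ⟨i, j, i', j', ?_⟩
  simp only [cK, kW, ← kTab_eq, ← kMask_eq, hi, hj, hi', hj']
  decide +kernel

end Cfsg.Agent.Leech.Sec5
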