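import Cfsg.Agent.Lib.Leech.Sec5.Facts
import Cfsg.Agent.Lib.Leech.Sec5.WordFacts
import Cfsg.Agent.Lib.Leech.Co1Cent.Extra

/-!
# The centralizer of the element of order five inside the centralizer of the octad involution

Modulo 2 on the octad lattice it has order 300, and it acts on five totally singular subspaces as
the alternating group of degree five, the kernel being generated by the element of order five and
the centralizer in the kernel of the representation.
-/

set_option autoImplicit false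
set_option maxRecDepth 100000
set_option maxHeartbeats 2000000

namespace Cfsg.Agent.Leech.Sec5

open Cfsg Matrix QuadraticMap Cfsg.Agent.Reflections Cfsg.Agent.Leech.Co1Cent
open Cfsg.Agent.Golay (idx pt toSet octadO)

attribute [local irreducible] grpT candIdx grpSteps perm60

theorem genW_cases (k : Fin 3) : genW k = aW ∨ genW k = g1W ∨ genW k = g2W := by
  fin_cases k <;> simp [genW]

theorem genW_ok (k : Fin 3) : (genW k).all okStep = true ∧ (genW k).all okC = true := by
  fin_cases k
  · exact gen_ok0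
  · exact gen_ok1
  · exact gen_ok2

/-- The generators of the centralizer. -/
noncomputable def gC (k : Fin 3) : ↥C0 :=
  ⟨wordEl (genW k), wordEl_mem _ (genW_ok k).1 (genW_ok k).2⟩

/-- The element of order five. -/
noncomputable def aC : ↥C0 := gC 0

theorem coe_aC : (aC : Co0) = wordEl aW := rfl

/-- Its centralizer. -/
noncomputable def H0 : Subgroup ↥C0 := Subgroup.centralizer ({aC} : Set ↥C0)

theorem mem_H0 {g : ↥C0} : g ∈ H0 ↔ g * aC = aC * g := Subgroup.mem_centralizer_singleton_iff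

theorem word_comm {w w' : List Step} (hw : w.all okStep = true) (hw' : w'.all okStep = true)
    (h : sameW (w ++ w') (w' ++ w) = true) : wordEl w * wordEl w' = wordEl w' * wordEl w := by
  rw [← wordEl_append, ← wordEl_append]
  exact wordEl_ext (by rw [List.all_append, hw, hw']; rfl) (by rw [List.all_append, hw', hw]; rfl) h

theorem gC_mem (k : Fin 3) : gC k ∈ H0 := by
  rw [mem_H0]
  refine Subtype.ext ?_
  rw [Subgroup.coe_mul, Subgroup.coe_mul]
  fin_cases k
  · rfl
  · exact word_comm gen_ok1.1 gen_ok0.1 gen_comm1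
  · exact word_comm gen_ok2.1 gen_ok0.1 gen_comm2

theorem genN_lt : ∀ k : Fin 3, ∀ x : Fin 256, genN k.val x.val < 256 := by decide +kernel

theorem act_gC (k : Fin 3) {x : ℕ} (hx : x < 256) :
    act (rep8 (gC k)) (vb x) = vb (genN k.val x) :=
  act_wordEl (genW_ok k).1 rfl (cols_facts k) (cols_linear k) hx

theorem vb_inj {a b : ℕ} (ha : a < 256) (hb : b < 256) (h : vb a = vb b) : a = b := by
  refine Nat.eq_of_testBit_eq fun j => ?_
  by_cases hj : j < 8
  · have := congrFun h ((finSumFinEquiv : Fin 4 ⊕ Fin 4 ≃ Fin (4 + 4)).symm ⟨j, hj⟩)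
    simp only [vb, Equiv.apply_symm_apply] at this
    cases ha' : a.testBit j <;> cases hb' : b.testBit j <;> simp [ha', hb'] at this ⊢
  · have h256 : (256 : ℕ) ≤ 2 ^ j := le_trans (show 256 ≤ 2 ^ 8 by norm_num)
      (Nat.pow_le_pow_right (by norm_num) (by omega))
    rw [Nat.testBit_lt_two_pow (lt_of_lt_of_le ha h256),
      Nat.testBit_lt_two_pow (lt_of_lt_of_le hb h256)]

theorem bz_inj : ∀ a b : Bool, bz a = bz b → a = b := by decide

theorem act_Q8 (k : O8) {x y : ℕ} (hx : x < 256) (hy : y < 256) (h : act k (vb x) = vb y) :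
    qN y = qN x := by
  refine bz_inj _ _ ?_
  rw [← Q_vb hx, ← Q_vb hy, ← h, act_Q]

theorem act_pol (k : O8) {x x' y y' : ℕ} (hx : x < 256) (hx' : x' < 256) (hy : y < 256)
    (hy' : y' < 256) (h : act k (vb x) = vb y) (h' : act k (vb x') = vb y') :
    polN y y' = polN x x' := by
  refine bz_inj _ _ ?_
  rw [← polar_vb hx hx', ← polar_vb hy hy', ← h, ← h', polar, polar, ← act_add, act_Q, act_Q, act_Q]

theorem orbA_lt {x : ℕ} (hx : x < 256) : ∀ u ∈ orbA x, u < 256 := by
  have h : ∀ {y : ℕ}, y < 256 → genN 0 y < 256 := fun {y} hy => genN_lt 0 ⟨y, hy⟩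
  intro u hu
  simp only [orbA, List.mem_cons, List.not_mem_nil, or_false] at hu
  rcases hu with rfl | rfl | rfl | rfl | rfl
  exacts [hx, h hx, h (h hx), h (h (h hx)), h (h (h (h hx)))]

theorem orbA_act {k : O8} (hk : k * rep8 aC = rep8 aC * k) {x y : ℕ} (hx : x < 256) (hy : y < 256)
    (h : act k (vb x) = vb y) :
    List.Forall₂ (fun u v => act k (vb u) = vb v) (orbA x) (orbA y) := by
  have step : ∀ {u v : ℕ}, u < 256 → v < 256 → act k (vb u) = vb v →
      act k (vb (genN 0 u)) = vb (genN 0 v) := by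
    intro u v hu hv h'
    have h1 := congrArg (fun m => act m (vb u)) hk
    simp only [act_mul, h'] at h1
    rw [show aC = gC 0 from rfl, act_gC 0 hu, act_gC 0 hv] at h1
    exact h1
  have hl : ∀ {u : ℕ}, u < 256 → genN 0 u < 256 := fun {u} hu => genN_lt 0 ⟨u, hu⟩
  simp only [orbA]
  exact .cons h (.cons (step hx hy h) (.cons (step (hl hx) (hl hy) (step hx hy h))
    (.cons (step (hl (hl hx)) (hl (hl hy)) (step (hl hx) (hl hy) (step hx hy h)))
      (.cons (step (hl (hl (hl hx))) (hl (hl (hl hy)))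
        (step (hl (hl hx)) (hl (hl hy)) (step (hl hx) (hl hy) (step hx hy h)))) .nil))))

theorem map_pol {k : O8} : ∀ {L L' : List ℕ}, List.Forall₂ (fun u v => act k (vb u) = vb v) L L' →
    (∀ u ∈ L, u < 256) → (∀ u ∈ L', u < 256) → ∀ {w w' : ℕ}, w < 256 → w' < 256 →
    act k (vb w) = vb w' → (L'.map fun u => polN u w') = L.map fun u => polN u w
  | _, _, .nil, _, _, _, _, _, _, _ => rfl
  | _, _, .cons h ht, hL, hL', w, w', hw, hw', hww => by
    rw [List.map_cons, List.map_cons,
      act_pol k (hL _ List.mem_cons_self) hw (hL' _ List.mem_cons_self) hw' h hww,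
      map_pol ht (fun u hu => hL u (List.mem_cons_of_mem _ hu))
        (fun u hu => hL' u (List.mem_cons_of_mem _ hu)) hw hw' hww]

/-- The images of the generators of the module are among the candidates. -/
theorem mem_candT {k : O8} (hk : k * rep8 aC = rep8 aC * k) {x y : ℕ} (hx : x < 256) (hy : y < 256)
    (h1 : act k (vb codeV) = vb x) (h2 : act k (vb codeW) = vb y) : (x, y) ∈ candT := by
  obtain ⟨-, -, hV, hW⟩ := grp_base
  have oV := orbA_act hk hV hx h1
  have oW := orbA_act hk hW hy h2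
  have eq1 := act_Q8 k hV hx h1
  have eq2 := act_Q8 k hW hy h2
  have p1 := map_pol oV (orbA_lt hV) (orbA_lt hx) hV hx h1
  have p2 := map_pol oV (orbA_lt hV) (orbA_lt hx) hW hy h2
  have p3 := map_pol oW (orbA_lt hW) (orbA_lt hy) hW hy h2
  refine List.mem_flatten.2 ⟨_, List.mem_map.2 ⟨x, List.mem_filter.2
    ⟨List.mem_range.2 hx, by rw [eq1, p1]; simp⟩, rfl⟩, List.mem_map.2 ⟨y, List.mem_filter.2
    ⟨List.mem_range.2 hy, ?_⟩, rfl⟩⟩
  simp only [inv2, eq2, p2, p3, beq_self_eq_true]

attribute [local irreducible] candT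

theorem exists_of_zip_check {α β : Type} [BEq α] [LawfulBEq α] (d : α × β) (G : List (α × β)) :
    ∀ (L : List α) (I : List ℕ), L.length = I.length →
      (L.zip I).all (fun c => Nat.blt c.2 G.length && ((G.getD c.2 d).1 == c.1)) = true →
      ∀ x ∈ L, ∃ n < G.length, (G.getD n d).1 = x
  | [], _, _, _, x, hx => absurd hx List.not_mem_nil
  | a :: L, [], hl, _, _, _ => absurd hl (by simp)
  | a :: L, i :: I, hl, hall, x, hx => by
    rw [List.zip_cons_cons, List.all_cons, Bool.and_eq_true] at hall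
    obtain ⟨h1, h2⟩ := hall
    rw [Bool.and_eq_true, Nat.blt_eq, beq_iff_eq] at h1
    rcases List.mem_cons.1 hx with rfl | hx
    · exact ⟨i, h1.1, h1.2⟩
    · exact exists_of_zip_check d G L I (by simpa using hl) h2 x hx

theorem candT_grp {c : ℕ × ℕ} (hc : c ∈ candT) :
    ∃ n < grpT.length, (grpT.getD n ((0, 0), [])).1 = c :=
  exists_of_zip_check ((0, 0), []) grpT candT candIdx cand_mem.1 cand_mem.2 c hc

/-- The image of a code in the five subspaces. -/
def Maps (k : O8) (i j : Fin 5) : Prop :=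
  ∀ x ∈ spaceT.getD i.val [], ∃ y ∈ spaceT.getD j.val [], act k (vb x) = vb y

theorem space_facts : (∀ i : Fin 5, ∀ x ∈ spaceT.getD i.val [], x ≠ 0 →
      ∀ j : Fin 5, x ∈ spaceT.getD j.val [] → j = i) ∧
    ∀ i : Fin 5, ∃ x ∈ spaceT.getD i.val [], x ≠ 0 := by
  decide +kernel

theorem space_lt (i : Fin 5) : ∀ x ∈ spaceT.getD i.val [], x < 256 :=
  perm_facts.2.2.2.1 i

theorem Maps.mul {g h : O8} {i j l : Fin 5} (h1 : Maps h i j) (h2 : Maps g j l) :
    Maps (g * h) i l := by
  intro x hx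
  obtain ⟨y, hy, e⟩ := h1 x hx
  obtain ⟨z, hz, e'⟩ := h2 y hy
  exact ⟨z, hz, by rw [act_mul, e, e']⟩

theorem maps_one (i : Fin 5) : Maps 1 i i := fun x hx => ⟨x, hx, Reflections.act_one _⟩

theorem Maps.unique {k : O8} {i j j' : Fin 5} (h : Maps k i j) (h' : Maps k i j') : j = j' := by
  obtain ⟨x, hx, hx0⟩ := space_facts.2 i
  obtain ⟨y, hy, e⟩ := h x hx
  obtain ⟨y', hy', e'⟩ := h' x hx
  have hyy : y = y' := vb_inj (space_lt j y hy) (space_lt j' y' hy') (e.symm.trans e')
  subst hyy
  have hy0 : y ≠ 0 := by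
    intro hy0
    subst hy0
    have hz : vb 0 = (0 : I8 → ZMod 2) := by funext a; simp [vb]
    rw [hz, ← Reflections.act_zero k] at e
    exact hx0 (vb_inj (space_lt i x hx) (by norm_num) ((act_injective k e).trans hz.symm))
  exact (space_facts.1 j y hy hy0 j' hy').symm

theorem maps_gen (k : Fin 3) (i : Fin 5) :
    Maps (rep8 (gC k)) i ⟨(permT.getD k.val []).getD i.val 0, (perm_facts.1 k).2 i⟩ := by
  intro x hx
  exact ⟨genN k.val x, List.contains_iff_mem.1 (perm_facts.2.2.1 k i x hx),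
    act_gC k (space_lt i x hx)⟩

/-- The generated subgroup. -/
noncomputable def H1 : Subgroup ↥C0 := Subgroup.closure (Set.range gC)

theorem H1_le : H1 ≤ H0 := by
  rw [H1, Subgroup.closure_le]
  rintro _ ⟨k, rfl⟩
  exact gC_mem k

/-- What a table entry says about an element. -/
def Good (g : ↥C0) (c : (ℕ × ℕ) × List ℕ) : Prop :=
  (c.1.1 < 256 ∧ c.1.2 < 256) ∧ act (rep8 g) (vb codeV) = vb c.1.1 ∧
    act (rep8 g) (vb codeW) = vb c.1.2 ∧ c.2.length = 5 ∧
    ∀ i : Fin 5, ∃ j : Fin 5, j.val = c.2.getD i.val 0 ∧ Maps (rep8 g) i j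

theorem grp_good : ∀ n < grpT.length, ∃ g ∈ H1, Good g (grpT.getD n ((0, 0), [])) := by
  intro n
  induction n using Nat.strong_induction_on with
  | h n ih =>
    intro hn
    obtain ⟨hhead, hlen, hV, hW⟩ := grp_base
    rcases n with _ | m
    · refine ⟨1, one_mem _, ?_⟩
      have : grpT.getD 0 ((0, 0), []) = ((codeV, codeW), [0, 1, 2, 3, 4]) := by
        rw [List.head?_eq_getElem?] at hhead
        rw [List.getD_eq_getElem?_getD, hhead]
        rfl
      rw [this]
      refine ⟨⟨hV, hW⟩, ?_, ?_, rfl, fun i => ⟨i, ?_, ?_⟩⟩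
      · rw [map_one, Reflections.act_one]
      · rw [map_one, Reflections.act_one]
      · fin_cases i <;> rfl
      · rw [map_one]; exact maps_one i
    · have hm : m < grpSteps.length := by omega
      have hm299 : m < 299 := by
        have : grpSteps.length = 299 := by decide +kernel
        omega
      obtain ⟨⟨p, k⟩, hpk⟩ : ∃ pk, grpSteps[m] = pk := ⟨_, rfl⟩
      have hmem : (grpT[m + 1], ((p, k), m)) ∈
          (grpT.drop 1).zip (grpSteps.zip (List.range 299)) := by
        refine List.mem_iff_getElem.2 ⟨m, by simp; omega, ?_⟩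
        rw [List.getElem_zip, List.getElem_zip, List.getElem_drop]
        simp only [List.getElem_range, Nat.add_comm 1 m]
        exact congrArg (fun y => (grpT[m + 1], (y, m))) hpk
      have h := List.all_eq_true.1 grp_steps _ hmem
      simp only [Bool.and_eq_true, Nat.blt_eq, beq_iff_eq] at h
      obtain ⟨⟨hp, hk⟩, he⟩ := h
      obtain ⟨g, hg, ⟨hl1, hl2⟩, e1, e2, hlen5, hmaps⟩ := ih p hp (by omega)
      refine ⟨gC ⟨k, hk⟩ * g, mul_mem (Subgroup.subset_closure ⟨_, rfl⟩) hg, ?_⟩
      rw [List.getD_eq_getElem _ _ hn, he]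
      refine ⟨⟨genN_lt ⟨k, hk⟩ ⟨_, hl1⟩, genN_lt ⟨k, hk⟩ ⟨_, hl2⟩⟩, ?_, ?_,
        (List.length_map _).trans hlen5, fun i => ?_⟩
      · rw [map_mul, act_mul, e1]; exact act_gC ⟨k, hk⟩ hl1
      · rw [map_mul, act_mul, e2]; exact act_gC ⟨k, hk⟩ hl2
      · obtain ⟨j, hj, hjm⟩ := hmaps i
        refine ⟨⟨_, (perm_facts.1 ⟨k, hk⟩).2 j⟩, ?_, ?_⟩
        · show (permT.getD k []).getD j.val 0 = _
          rw [hj]
          have hi : i.val < (grpT.getD p ((0, 0), [])).2.length := by rw [hlen5]; exact i.isLt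
          rw [List.getD_eq_getElem (l := List.map _ _) _ (by simpa using hi), List.getElem_map,
            List.getD_eq_getElem _ _ hi]
        · rw [map_mul]
          exact hjm.mul (maps_gen ⟨k, hk⟩ j)

/-- Two elements commuting with the element of order five that agree on both generators agree. -/
theorem eq_of_agree {k k' : O8} (hk : k * rep8 aC = rep8 aC * k)
    (hk' : k' * rep8 aC = rep8 aC * k') (h1 : act k (vb codeV) = act k' (vb codeV))
    (h2 : act k (vb codeW) = act k' (vb codeW)) : k = k' := by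
  obtain ⟨-, -, hV, hW⟩ := grp_base
  set d := k'⁻¹ * k with hd
  have hdc : d * rep8 aC = rep8 aC * d :=
    ((show Commute k' (rep8 aC) from hk').inv_left.mul_left hk).eq
  have hfix : ∀ {x : ℕ}, x < 256 → act k (vb x) = act k' (vb x) → act d (vb x) = vb x := by
    intro x _ h
    rw [hd, act_mul, h, ← act_mul, inv_mul_cancel, Reflections.act_one]
  have key : ∀ {x : ℕ}, x < 256 → act d (vb x) = vb x → ∀ u ∈ orbA x, act d (vb u) = vb u := by
    intro x hx h u hu
    have hF := orbA_act hdc hx hx h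
    obtain ⟨i, hi, rfl⟩ := List.getElem_of_mem hu
    exact hF.get hi hi
  have hall : ∀ x < 256, act d (vb x) = vb x := by
    intro x hx
    have hmem := List.contains_iff_mem.1 (List.all_eq_true.1 span_ok x (List.mem_range.2 hx))
    refine (spanN_sound d _ ?_ x hmem).2
    intro v hv
    rcases List.mem_append.1 hv with hv | hv
    · exact ⟨orbA_lt hV v hv, key hV (hfix hV h1) v hv⟩
    · exact ⟨orbA_lt hW v hv, key hW (hfix hW h2) v hv⟩
  have h1 : d = 1 := isom_ext fun w => by
    obtain ⟨x, hx, rfl⟩ := exists_vb w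
    rw [hall x hx, Reflections.act_one]
  rw [hd, inv_mul_eq_one] at h1
  exact h1.symm

theorem rep_comm {g : ↥C0} (hg : g ∈ H0) : rep8 g * rep8 aC = rep8 aC * rep8 g := by
  rw [← map_mul, mem_H0.1 hg, map_mul]

theorem classify {g : ↥C0} (hg : g ∈ H0) :
    ∃ n < grpT.length, ∃ g' ∈ H1, rep8 g = rep8 g' ∧ Good g' (grpT.getD n ((0, 0), [])) := by
  obtain ⟨x, hx, hxe⟩ := exists_vb (act (rep8 g) (vb codeV))
  obtain ⟨y, hy, hye⟩ := exists_vb (act (rep8 g) (vb codeW))
  obtain ⟨n, hn, hfst⟩ := candT_grp (mem_candT (rep_comm hg) hx hy hxe.symm hye.symm)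
  obtain ⟨g', hg', hG⟩ := grp_good n hn
  refine ⟨n, hn, g', hg', eq_of_agree (rep_comm hg) (rep_comm (H1_le hg')) ?_ ?_, hG⟩
  · rw [hG.2.1, hfst, hxe]
  · rw [hG.2.2.1, hfst, hye]

theorem exists_maps (g : ↥H0) (i : Fin 5) : ∃ j, Maps (rep8 g.1) i j := by
  obtain ⟨n, -, g', -, e, hG⟩ := classify g.2
  obtain ⟨j, -, hj⟩ := hG.2.2.2.2 i
  exact ⟨j, e ▸ hj⟩

/-- The image of a subspace. -/
noncomputable def sig (g : ↥H0) (i : Fin 5) : Fin 5 := (exists_maps g i).choose

theorem sig_maps (g : ↥H0) (i : Fin 5) : Maps (rep8 g.1) i (sig g i) :=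
  (exists_maps g i).choose_spec

theorem sig_mul (g h : ↥H0) (i : Fin 5) : sig (g * h) i = sig g (sig h i) :=
  (sig_maps (g * h) i).unique (by
    rw [Subgroup.coe_mul, map_mul]
    exact (sig_maps h i).mul (sig_maps g _))

theorem sig_one (i : Fin 5) : sig 1 i = i :=
  (sig_maps 1 i).unique (by rw [OneMemClass.coe_one, map_one]; exact maps_one i)

/-- The action on the five subspaces. -/
noncomputable def piP : ↥H0 →* Equiv.Perm (Fin 5) where
  toFun g :=
    { toFun := sig g
      invFun := sig g⁻¹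
      left_inv := fun i => by rw [← sig_mul, inv_mul_cancel, sig_one]
      right_inv := fun i => by rw [← sig_mul, mul_inv_cancel, sig_one] }
  map_one' := Equiv.ext sig_one
  map_mul' g h := Equiv.ext fun i => sig_mul g h i

theorem piP_eq_of_rep {g h : ↥H0} (e : rep8 g.1 = rep8 h.1) : piP g = piP h :=
  Equiv.ext fun i => (sig_maps g i).unique (e ▸ sig_maps h i)

theorem piP_gen_apply (k : Fin 3) (i : Fin 5) :
    piP ⟨gC k, gC_mem k⟩ i = ⟨(permT.getD k.val []).getD i.val 0, (perm_facts.1 k).2 i⟩ :=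
  (sig_maps ⟨gC k, gC_mem k⟩ i).unique (maps_gen k i)

theorem gen_even : ∀ k : Fin 3, ∀ e : Equiv.Perm (Fin 5),
    (∀ i : Fin 5, (e i).val = (permT.getD k.val []).getD i.val 0) → Equiv.Perm.sign e = 1 := by
  decide +kernel

theorem piP_even (g : ↥H0) : piP g ∈ alternatingGroup (Fin 5) := by
  obtain ⟨n, -, g', hg', e, -⟩ := classify g.2
  rw [piP_eq_of_rep (h := ⟨g', H1_le hg'⟩) e]
  have hle : H1.subgroupOf H0 ≤ (alternatingGroup (Fin 5)).comap piP := by
    have hcl : H1.subgroupOf H0 =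
        Subgroup.closure (Set.range fun k => (⟨gC k, gC_mem k⟩ : ↥H0)) := by
      refine Subgroup.map_injective H0.subtype_injective ?_
      rw [Subgroup.map_subgroupOf_eq_of_le H1_le, MonoidHom.map_closure, ← Set.range_comp]
      rfl
    rw [hcl, Subgroup.closure_le]
    rintro _ ⟨k, rfl⟩
    refine Equiv.Perm.mem_alternatingGroup.2 (gen_even k _ fun i => ?_)
    rw [piP_gen_apply]
  exact hle hg'

/-- The action, as a map into the alternating group. -/
noncomputable def piA : ↥H0 →* alternatingGroup (Fin 5) := piP.codRestrict _ piP_even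

theorem piP_good {g : ↥H0} {c : (ℕ × ℕ) × List ℕ} (h : Good g.1 c) (i : Fin 5) :
    (piP g i).val = c.2.getD i.val 0 := by
  obtain ⟨j, hj, hm⟩ := h.2.2.2.2 i
  rw [show piP g i = j from (sig_maps g i).unique hm, hj]

theorem piA_surjective : Function.Surjective piA := by
  obtain ⟨hl, hnd, hlt⟩ := perm_distinct
  have hex : ∀ m : Fin 60, ∃ g : ↥H0, Good g.1 (grpT.getD (perm60.getD m.val 0) ((0, 0), [])) := by
    intro m
    have hm : m.val < perm60.length := by rw [hl]; exact m.isLt
    have hb := List.all_eq_true.1 hlt _ (List.getElem_mem hm)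
    rw [Nat.blt_eq] at hb
    obtain ⟨g, hg, hG⟩ := grp_good (perm60.getD m.val 0)
      (by rwa [List.getD_eq_getElem _ _ hm])
    exact ⟨⟨g, H1_le hg⟩, hG⟩
  choose f hf using hex
  have hinj : Function.Injective fun m => piA (f m) := by
    intro m m' e
    have e' : piP (f m) = piP (f m') := congrArg Subtype.val e
    have hm : m.val < perm60.length := by rw [hl]; exact m.isLt
    have hm' : m'.val < perm60.length := by rw [hl]; exact m'.isLt
    have hlist : (grpT.getD (perm60.getD m.val 0) ((0, 0), [])).2 =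
        (grpT.getD (perm60.getD m'.val 0) ((0, 0), [])).2 := by
      refine List.ext_getElem (by rw [(hf m).2.2.2.1, (hf m').2.2.2.1]) fun i hi hi' => ?_
      have h5 : i < 5 := by rw [← (hf m).2.2.2.1]; exact hi
      rw [← List.getD_eq_getElem _ 0 hi, ← List.getD_eq_getElem _ 0 hi',
        ← piP_good (hf m) ⟨i, h5⟩, ← piP_good (hf m') ⟨i, h5⟩, e']
    rw [List.getD_eq_getElem _ _ hm, List.getD_eq_getElem _ _ hm'] at hlist
    refine Fin.ext ((List.Nodup.getElem_inj_iff hnd).1
      (?_ : (perm60.map fun n => (grpT.getD n ((0, 0), [])).2)[m.val]'(by simpa using hm) =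
        (perm60.map fun n => (grpT.getD n ((0, 0), [])).2)[m'.val]'(by simpa using hm')))
    rw [List.getElem_map, List.getElem_map]
    exact hlist
  have hcard : Nat.card (Fin 60) = Nat.card (alternatingGroup (Fin 5)) := by
    rw [Nat.card_fin]
    have h := two_mul_nat_card_alternatingGroup (α := Fin 5)
    rw [Nat.card_perm, Nat.card_fin, show Nat.factorial 5 = 120 from rfl] at h
    omega
  intro a
  obtain ⟨m, hm⟩ := (hinj.bijective_of_nat_card_le hcard.ge).2 a
  exact ⟨f m, hm⟩

theorem piA_aC : piA ⟨aC, gC_mem 0⟩ = 1 := by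
  refine Subtype.ext (Equiv.ext fun i => Fin.ext ?_)
  show (piP ⟨gC 0, gC_mem 0⟩ i).val = i.val
  rw [piP_gen_apply]
  show (permT.getD 0 []).getD i.val 0 = i.val
  rw [perm_facts.2.1]
  fin_cases i <;> rfl

theorem piA_ker {g : ↥H0} (h : rep8 g.1 = 1) : piA g = 1 := by
  refine Subtype.ext ?_
  show piP g = 1
  rw [piP_eq_of_rep (h := 1) (by rw [OneMemClass.coe_one, map_one]; exact h), map_one]

/-- The kernel of the action. -/
theorem piA_eq_one {g : ↥H0} (h : piA g = 1) :
    ∃ n : ℕ, rep8 g.1 = rep8 (aC ^ n) := by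
  obtain ⟨m, hm, g', hg', e, hG⟩ := classify g.2
  have hmem : grpT.getD m ((0, 0), []) ∈ grpT := by
    rw [List.getD_eq_getElem _ _ hm]; exact List.getElem_mem hm
  generalize grpT.getD m ((0, 0), []) = c at hG hmem
  have heq : piP g = piP ⟨g', H1_le hg'⟩ := piP_eq_of_rep (g := g) (h := ⟨g', H1_le hg'⟩) e
  have h1 : piP g = 1 := congrArg Subtype.val h
  have hid : c.2 = [0, 1, 2, 3, 4] := by
    refine List.ext_getElem (by rw [hG.2.2.2.1]; rfl) fun i hi hi' => ?_
    have h5 : i < 5 := by rw [← hG.2.2.2.1]; exact hi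
    have h2 := piP_good (g := (⟨g', H1_le hg'⟩ : ↥H0)) (c := c) hG ⟨i, h5⟩
    rw [← List.getD_eq_getElem _ 0 hi, ← h2, ← heq, h1]
    interval_cases i <;> rfl
  have hker := List.all_eq_true.1 grp_kernel c hmem
  rw [hid] at hker
  simp only [beq_self_eq_true, Bool.not_true, Bool.false_or, List.contains_iff_mem] at hker
  obtain ⟨i, hi, he⟩ := List.getElem_of_mem hker
  obtain ⟨-, -, hV, hW⟩ := grp_base
  have hpow : ∀ {x : ℕ}, x < 256 → ∀ (hi : i < (orbA x).length),
      act (rep8 (aC ^ i)) (vb x) = vb ((orbA x)[i]) := by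
    intro x hx hi
    have hi5 : i < 5 := by simpa [orbA] using hi
    have hl : ∀ {u : ℕ}, u < 256 → genN 0 u < 256 := fun {u} hu => genN_lt 0 ⟨u, hu⟩
    have hs : ∀ {u : ℕ}, u < 256 → act (rep8 aC) (vb u) = vb (genN 0 u) := fun hu => act_gC 0 hu
    interval_cases i <;>
      simp only [pow_succ', pow_zero, mul_one, map_mul, map_one, act_mul, Reflections.act_one,
        hs hx, hs (hl hx), hs (hl (hl hx)), hs (hl (hl (hl hx))), orbA, List.getElem_cons_zero,
        List.getElem_cons_succ]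
  refine ⟨i, ?_⟩
  rw [e]
  have hpc : rep8 (aC ^ i) * rep8 aC = rep8 aC * rep8 (aC ^ i) := by
    rw [← map_mul, ← map_mul, pow_mul_comm']
  rw [List.getElem_zip] at he
  have he1 := congrArg Prod.fst he
  have he2 := congrArg Prod.snd he
  refine eq_of_agree (rep_comm (H1_le hg')) hpc ?_ ?_
  · rw [hG.2.1, hpow hV (by simpa [orbA] using hi), ← he1]
  · rw [hG.2.2.1, hpow hW (by simpa [orbA] using hi), ← he2]

end Cfsg.Agent.Leech.Sec5
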