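import Cfsg.Agent.Lib.Leech.Sec5.Quot
import Cfsg.Agent.Lib.Leech.Co1Cent.Main

/-!
# The section is simple of Hall–Janko type
-/

set_option autoImplicit false
set_option maxRecDepth 100000
set_option maxHeartbeats 2000000

namespace Cfsg.Agent.Leech.Sec5

open Cfsg Cfsg.Agent.Reflections Cfsg.Agent.Leech.Co1Cent
open Cfsg.Agent.Golay (idx pt toSet octadO)

theorem phi_eq_cov {g h : ↥K0} (e : phi g.1 = phi h.1) : cov g.1.1 = cov h.1.1 := by
  have h1 : phi (g⁻¹ * h).1 = 1 := by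
    rw [Subgroup.coe_mul, Subgroup.coe_inv, map_mul, map_inv, e, inv_mul_cancel]
  have h2 := (phi_eq_one_K0 (g⁻¹ * h).2).1 h1
  rw [Subgroup.coe_mul, Subgroup.coe_inv, Subgroup.coe_mul, Subgroup.coe_inv, map_mul, map_inv,
    inv_mul_eq_one] at h2
  exact h2

theorem toQ5_val (g : ↥K0) : ((toQ5 g : ↥Q5) : ↥CS) = phi g.1 := rfl

theorem kW_ok : ∀ (i : Fin 16) (j : Fin 32), (kW i j).all okStep = true := by
  intro i j
  obtain ⟨h1, h2, -⟩ := tab_facts.1 i
  simp only [kW, List.all_cons, List.all_nil, okStep, h1, h2, (maskN_spec j).1, Bool.and_self]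

theorem wordEl_kW (i : Fin 16) (j : Fin 32) : wordEl (kW i j) = (el i j).1 := by
  refine ext_frame fun p => Subtype.ext ?_
  rw [coe_wordEl _ (kW_ok i j) _ _ (funext (vecL_frameL p))]
  show vecL (stepL (some (tabN i, maskN j)) (frameL (idx p))) = _
  rw [vecL_stepL, ← show (frame p : GolayPt → ℤ) = vecL (frameL (idx p)) from
    funext (vecL_frameL p)]
  show monVec (tabN i) (maskN j) (frame p : GolayPt → ℤ) =
    ((mono (sigT i) (code_mask j) • frame p : leechLattice) : GolayPt → ℤ)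
  rw [coe_mono_smul]
  funext q
  have hsy : (sigT i).1.symm q = pt ((tabN i).getD (idx q) 0) := by
    rw [Equiv.symm_apply_eq, ← (tab_sigT i).apply q]
    have := congrArg (fun σ : M24 => σ.1 q) (sigT_sq i)
    simpa using this.symm
  simp only [monVec, signedPerm, hsy]

theorem q9_mul_left (i : Fin 16) (j : Fin 32) {i' : Fin 16} {j' : Fin 32}
    (h : q9 (i', j') = wQ * q9 (i, j)) : tabN i' = tabN i ∧ maskN j' = maskN j ^^^ ocMask := by
  obtain ⟨hc, e, d⟩ := el_mul i0 i jc j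
  have h1 : mk1 (el i' j').1 = mk1 (el i0 jc * el i j).1 :=
    congrArg Subtype.val (congrArg Subtype.val h)
  rw [e] at h1
  obtain ⟨e1, e2⟩ := mk1_mono_inj (kerData_el i' j').2 d h1
  rw [sigT_i0, one_mul] at e1
  refine ⟨?_, ?_⟩
  · refine List.ext_getElem (by rw [tabN_length, tabN_length]) fun k hk1 hk2 => ?_
    have a := tab_sigT i'
    rw [e1] at a
    rw [← List.getD_eq_getElem _ 0 hk1, ← List.getD_eq_getElem _ 0 hk2,
      ← a k (tabN_length i' ▸ hk1), ← tab_sigT i k (tabN_length i ▸ hk2)]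
  · have h3 := Golay.toSet_injOn (Golay.inCode_lt (maskN_spec j').1) (mul_lt _ _ _) e2
    rw [img_trivial.1 j, mask_jc, Nat.xor_comm] at h3
    exact h3

theorem exists_move : ∃ c : ↥CS, ∃ q ∈ Q5,
    (c : S5) * q * (c : S5)⁻¹ * (q : S5)⁻¹ ∉ Subgroup.zpowers zS := by
  obtain ⟨i, j, i', j', hc, hc', hs, hne⟩ := move_facts
  refine ⟨phi ⟨gC 1, gC_mem 1⟩, toQ5 (kel i j hc), (toQ5 _).2, fun h => ?_⟩
  have hconj : phi ⟨gC 1, gC_mem 1⟩ * phi (kel i j hc).1 * (phi ⟨gC 1, gC_mem 1⟩)⁻¹ =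
      phi (kel i' j' hc').1 := by
    rw [mul_inv_eq_iff_eq_mul, ← map_mul, ← map_mul]
    refine congrArg phi (Subtype.ext (Subtype.ext ?_))
    show wordEl (genW 1) * (el i j).1 = (el i' j').1 * wordEl (genW 1)
    rw [← wordEl_kW, ← wordEl_kW, ← wordEl_append, ← wordEl_append]
    exact wordEl_ext (by rw [List.all_append, (genW_ok 1).1, kW_ok]; rfl)
      (by rw [List.all_append, (genW_ok 1).1, kW_ok]; rfl) hs
  have h' : (phi (kel i' j' hc').1 * (phi (kel i j hc).1)⁻¹ : ↥CS).1 ∈ Subgroup.zpowers zS := by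
    rw [← hconj]
    exact h
  obtain ⟨n, hn⟩ := Subgroup.mem_zpowers_iff.1 h'
  have hz2 : zS ^ (2 : ℤ) = 1 := by
    rw [zpow_two, ← pow_two, ← orderOf_zS, pow_orderOf_eq_one]
  rcases Int.even_or_odd' n with ⟨m, e | e⟩ <;> rw [e] at hn
  · rw [zpow_mul, hz2, one_zpow] at hn
    have h1 : phi (kel i' j' hc').1 = phi (kel i j hc).1 :=
      mul_inv_eq_one.1 (Subtype.ext hn.symm)
    have h2 : q9 (i', j') = q9 (i, j) := Subtype.ext (phi_eq_cov h1)
    have h3 := q9_bijective.1 h2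
    rw [Prod.mk.injEq] at h3
    exact (hne (by rw [h3.1])).1 (by rw [h3.2])
  · rw [zpow_add, zpow_mul, hz2, one_zpow, one_mul, zpow_one] at hn
    have hze : zS = ((phi (kel i0 jc zC_facts).1 : ↥CS) : S5) := by
      show QuotientGroup.mk' NA (incl epsH) = QuotientGroup.mk' NA (incl (kel i0 jc zC_facts).1)
      rw [QuotientGroup.mk'_eq_mk']
      rcases mk1_eq_iff.1 (show mk1 (el i0 jc).1 = mk1 epsO from coe_wQ) with e' | e'
      · exact ⟨1, one_mem _, Subtype.ext (by
          show epsO * 1 = (el i0 jc).1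
          rw [mul_one]; exact e')⟩
      · refine ⟨⟨negOne, mem_HA.2 (Subgroup.mem_center_iff.1 negOne_mem_center aA).symm⟩,
          Subgroup.mem_sup_right negOne_mem_center, Subtype.ext ?_⟩
        show epsO * negOne = (el i0 jc).1
        rw [e', ← Subgroup.mem_center_iff.1 negOne_mem_center (el i0 jc).1, mul_assoc,
          show negOne * negOne = 1 from ext_frame fun i => by
            rw [mul_smul, negOne_smul, negOne_smul, neg_neg, one_smul], mul_one]
    rw [hze] at hn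
    have h1 : phi (kel i' j' hc').1 = phi (kel i0 jc zC_facts * kel i j hc).1 := by
      rw [Subgroup.coe_mul, map_mul]
      exact mul_inv_eq_iff_eq_mul.1 (Subtype.ext hn.symm)
    have h2 : q9 (i', j') = wQ * q9 (i, j) := by
      refine Subtype.ext ?_
      have := phi_eq_cov h1
      rw [Subgroup.coe_mul, Subgroup.coe_mul, map_mul] at this
      exact this
    obtain ⟨e1, e2⟩ := q9_mul_left i j h2
    exact (hne e1).2 e2

theorem exists_conj_in : ∃ u : ↥CS, u ∈ Q5 ∧ (u : S5) ≠ zS ∧ IsConj zS (u : S5) := by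
  obtain ⟨j, hj, -, hjne, hall⟩ := tau_octad
  obtain ⟨hc, hs⟩ := hall i0 tab_i0
  have hte : wordEl tauW * wordEl aW = wordEl aW * wordEl tauW :=
    word_comm tau_ok.1 gen_ok0.1 tau_ok.2
  have hoct : (List.all [(some (Golay.idTab, octadO) : Step)] okStep) = true := by decide +kernel
  have heps : wordEl [(some (Golay.idTab, octadO) : Step)] = epsO := by
    refine ext_frame fun p => Subtype.ext ?_
    rw [coe_wordEl _ hoct _ _ (funext (vecL_frameL p)), coe_epsO_smul]
    show vecL (stepL (some (Golay.idTab, octadO)) (frameL (idx p))) = _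
    rw [vecL_stepL, ← show (frame p : GolayPt → ℤ) = vecL (frameL (idx p)) from
      funext (vecL_frameL p)]
    have hid : ∀ q : GolayPt, pt (Golay.idTab.getD (idx q) 0) = q := by decide +kernel
    funext q
    simp only [stepFun, monVec, signedPerm, hid,
      show ∀ r, (Equiv.symm (1 : Equiv.Perm GolayPt)) r = r from fun _ => rfl]
    rfl
  have hsum : wordEl tauW * epsO = (el i0 j).1 * wordEl tauW := by
    rw [← heps, ← wordEl_kW, ← wordEl_append, ← wordEl_append]
    exact wordEl_ext (by rw [List.all_append, tau_ok.1, hoct]; rfl)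
      (by rw [List.all_append, tau_ok.1, kW_ok]; rfl) hs
  refine ⟨phi (kel i0 j hc).1, (toQ5 (kel i0 j hc)).2, fun he => ?_, ?_⟩
  · have h1 : phi (kel i0 j hc).1 = phi (kel i0 jc zC_facts).1 := by
      refine Subtype.ext (he.trans ?_)
      show QuotientGroup.mk' NA (incl epsH) = QuotientGroup.mk' NA (incl (kel i0 jc zC_facts).1)
      rw [QuotientGroup.mk'_eq_mk']
      rcases mk1_eq_iff.1 (show mk1 (el i0 jc).1 = mk1 epsO from coe_wQ) with e' | e'
      · exact ⟨1, one_mem _, Subtype.ext (by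
          show epsO * 1 = (el i0 jc).1
          rw [mul_one]; exact e')⟩
      · refine ⟨⟨negOne, mem_HA.2 (Subgroup.mem_center_iff.1 negOne_mem_center aA).symm⟩,
          Subgroup.mem_sup_right negOne_mem_center, Subtype.ext ?_⟩
        show epsO * negOne = (el i0 jc).1
        rw [e', ← Subgroup.mem_center_iff.1 negOne_mem_center (el i0 jc).1, mul_assoc,
          show negOne * negOne = 1 from ext_frame fun i => by
            rw [mul_smul, negOne_smul, negOne_smul, neg_neg, one_smul], mul_one]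
    have h2 : q9 (i0, j) = q9 (i0, jc) := Subtype.ext (phi_eq_cov h1)
    have h3 := q9_bijective.1 h2
    rw [Prod.mk.injEq] at h3
    exact hjne (by rw [h3.2, mask_jc])
  · refine isConj_iff.2 ⟨QuotientGroup.mk' NA ⟨wordEl tauW, mem_HA.2 hte⟩, ?_⟩
    rw [mul_inv_eq_iff_eq_mul, zS, ← map_mul]
    show _ = QuotientGroup.mk' NA (incl (kel i0 j hc).1) * _
    rw [← map_mul]
    exact congrArg _ (Subtype.ext hsum)

/-- The section has Hall–Janko type. -/
theorem hj : J2Order38.HJ zS (Q5.map CS.subtype) := by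
  haveI : Finite Co0 := finite_Co0 codeUnique
  exact J2Fusion14.hj_of_shape orderOf_zS Q5 card_Q5 Q5_extraspecial quotA5 exists_move exists_conj_in

/-- The section of `Co₀` at an element of order five. -/
theorem j2_section : ∃ A : Subgroup ↥Cfsg.Co0, Nat.card A = 5 ∧ ∃ (hn : ((A ⊔ Subgroup.center ↥Cfsg.Co0).subgroupOf (Subgroup.centralizer (A : Set ↥Cfsg.Co0))).Normal), ∃ (S : Type) (_ : Group S) (_ : Finite S), Nonempty (S ≃* ↥(Subgroup.centralizer (A : Set ↥Cfsg.Co0)) ⧸ (A ⊔ Subgroup.center ↥Cfsg.Co0).subgroupOf (Subgroup.centralizer (A : Set ↥Cfsg.Co0))) ∧ IsSimpleGroup S ∧ ¬ IsMulCommutative S ∧ ∃ z : S, orderOf z = 2 ∧ ∃ (Q : Subgroup (Subgroup.centralizer ({z} : Set S))) (_ : Q.Normal), Cfsg.generalizedFittingSubgroup (Subgroup.centralizer ({z} : Set S)) = Q ∧ Cfsg.IsExtraspecial 2 Q ∧ Nat.card Q = 2 ^ 5 ∧ Nonempty ((Subgroup.centralizer ({z} : Set S)) ⧸ Q ≃* Cfsg.Omega (ZMod 2) (Cfsg.quadFormMinus 1 (ZMod 2) 1 1)) ∧ ∃ g : S, (∃ hq : g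 * z * g⁻¹ ∈ Subgroup.centralizer ({z} : Set S), (⟨g * z * g⁻¹, hq⟩ : Subgroup.centralizer ({z} : Set S)) ∈ Q) ∧ g * z * g⁻¹ ≠ z := by
  haveI : Finite Co0 := finite_Co0 codeUnique
  have hHJ := hj
  refine ⟨A5g, card_A5g, NA_normal, S5, inferInstance, inferInstance, ⟨MulEquiv.refl _⟩,
    J2Fusion14.isSimpleGroup hHJ, ?_, zS, orderOf_zS, Q5, Q5_normal, ?_, Q5_extraspecial, card_Q5,
    ?_, ?_⟩
  · intro hab
    obtain ⟨π, hπs, -⟩ := hHJ.quot
    obtain ⟨x, hx⟩ := hπs J2Order38.A5.a0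
    obtain ⟨y, hy⟩ := hπs J2Order38.A5.b0
    have hxy : x * y = y * x := Subtype.ext (mul_comm' (x : S5) (y : S5))
    have hc : Commute J2Order38.A5.a0 J2Order38.A5.b0 := by
      have := congrArg π hxy
      rwa [map_mul, map_mul, hx, hy] at this
    refine J2Order38.A5.prod_five.2 ?_
    have h2 : (J2Order38.A5.a0 * J2Order38.A5.b0) ^ 2 = 1 := by
      rw [hc.mul_pow, pow_two, pow_two, J2Order38.A5.a0_sq, J2Order38.A5.b0_conj.1, mul_one]
    have e5 : (J2Order38.A5.a0 * J2Order38.A5.b0) ^ 5 = ((J2Order38.A5.a0 * J2Order38.A5.b0) ^ 2) ^ 2 * (J2Order38.A5.a0 * J2Order38.A5.b0) := by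
      rw [← pow_mul, ← pow_succ]
    rw [J2Order38.A5.prod_five.1, h2, one_pow, one_mul] at e5
    exact e5.symm
  · haveI : Fact (Nat.Prime 2) := ⟨Nat.prime_two⟩
    haveI : IsSimpleGroup (alternatingGroup (Fin 5)) := alternatingGroup.isSimpleGroup_five
    have hs : IsSimpleGroup (↥CS ⧸ Q5) := MulEquiv.isSimpleGroup quotA5
    refine Co1Cent.genFitting_of_quot (IsPGroup.of_card (p := 2) (n := 5) (by rw [card_Q5]; rfl)).isNilpotent hs
      (fun hsol => ?_) ?_
    · haveI : Group.IsSolvable (↥CS ⧸ Q5) := hsol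
      have h5 : Group.IsSolvable (alternatingGroup (Fin 5)) :=
        solvable_of_surjective (f := quotA5.toMonoidHom) quotA5.surjective
      have hc := IsSimpleGroup.comm_iff_isSolvable.2 h5 J2Order38.A5.a0 J2Order38.A5.b0
      refine J2Order38.A5.prod_five.2 ?_
      have h2 : (J2Order38.A5.a0 * J2Order38.A5.b0) ^ 2 = 1 := by
        rw [(show Commute J2Order38.A5.a0 J2Order38.A5.b0 from hc).mul_pow, pow_two, pow_two, J2Order38.A5.a0_sq, J2Order38.A5.b0_conj.1,
          mul_one]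
      have e5 : (J2Order38.A5.a0 * J2Order38.A5.b0) ^ 5 = ((J2Order38.A5.a0 * J2Order38.A5.b0) ^ 2) ^ 2 * (J2Order38.A5.a0 * J2Order38.A5.b0) := by
        rw [← pow_mul, ← pow_succ]
      rw [J2Order38.A5.prod_five.1, h2, one_pow, one_mul] at e5
      exact e5.symm
    · intro x hx
      have hxc : (x : S5) ∈ Subgroup.centralizer ((Q5.map CS.subtype : Subgroup S5) : Set S5) := by
        rw [Subgroup.mem_centralizer_iff]
        rintro _ ⟨q, hq, rfl⟩
        exact congrArg Subtype.val (Subgroup.mem_centralizer_iff.1 hx q hq)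
      rw [hHJ.setup.centralizer_eq] at hxc
      have hxQ : (x : S5) ∈ Q5.map CS.subtype := Subgroup.zpowers_le.2 hHJ.z_mem hxc
      obtain ⟨q, hq, e⟩ := hxQ
      rwa [show x = q from Subtype.ext e.symm]
  · obtain ⟨φ⟩ := S0824.result (F := ZMod 2) (ZMod.card 2)
    let e2 : ↥(Cfsg.Omega (ZMod 2) (Cfsg.quadFormMinus 1 (ZMod 2) 1 1)) ≃* alternatingGroup (Fin 5) :=
      (φ.subgroupMap _).trans (MulEquiv.subgroupCongr (by
        rw [show (↑φ : ↥(Cfsg.isometryGroup (ZMod 2) (Cfsg.quadFormMinus 1 (ZMod 2) 1 1)) →* Equiv.Perm (Fin 5))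
            = φ.toMonoidHom from rfl, Cfsg.Omega, commutator_def, Subgroup.map_commutator,
          Subgroup.map_top_of_surjective _ φ.surjective, ← commutator_def,
          alternatingGroup.commutator_perm_eq (by simp)]))
    exact ⟨quotA5.trans e2.symm⟩
  · obtain ⟨u, hu, hne, hc⟩ := exists_conj_in
    obtain ⟨g, hg⟩ := isConj_iff.1 hc
    have hm : g * zS * g⁻¹ ∈ CS := hg ▸ u.2
    refine ⟨g, ⟨hm, ?_⟩, hg.symm ▸ hne⟩
    rw [show (⟨g * zS * g⁻¹, hm⟩ : ↥CS) = u from Subtype.ext hg]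
    exact hu

end Cfsg.Agent.Leech.Sec5
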