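import Cfsg.Agent.Lib.Leech.Sec5.Tables
import Cfsg.Agent.Lib.Leech.Sec5.WordDefs

/-!
# Kernel-checked facts about the tables for the element of order five
-/

set_option autoImplicit false
set_option maxRecDepth 100000
set_option maxHeartbeats 4000000
set_option Elab.async false

namespace Cfsg.Agent.Leech.Sec5

open Cfsg Matrix Cfsg.Agent.Reflections Cfsg.Agent.Leech.Co1Cent
open Cfsg.Agent.Golay (idx pt toSet octadO)

theorem cols_facts : ∀ k : Fin 3, ∀ i j : I8,
    psi (vecL (evalL (genW k) (hTab.getD (num j) []))) i = colMat (colsT.getD k.val []) i j := by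
  decide +kernel

theorem cols_linear : ∀ k : Fin 3, ∀ x : Fin 256, ∀ i : I8,
    (∑ j, colMat (colsT.getD k.val []) i j * vb x.val j) =
      vb (actN (colsT.getD k.val []) x.val) i := by
  decide +kernel

/-- The action of a generator on codes. -/
def genN (k : ℕ) (x : ℕ) : ℕ := actN (colsT.getD k []) x

/-- The orbit under the element of order five. -/
def orbA (x : ℕ) : List ℕ :=
  [x, genN 0 x, genN 0 (genN 0 x), genN 0 (genN 0 (genN 0 x)), genN 0 (genN 0 (genN 0 (genN 0 x)))]

/-- The invariants of a pair of vectors. -/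
def inv2 (x y : ℕ) : List Bool :=
  qN y :: (((orbA x).map fun u => polN u y) ++ ((orbA y).map fun u => polN u y))

/-- The possible images of the generators of the module. -/
def candT : List (ℕ × ℕ) :=
  (((List.range 256).filter fun x => qN x == qN codeV &&
      (((orbA x).map fun u => polN u x) == ((orbA codeV).map fun u => polN u codeV))).map fun x =>
    ((List.range 256).filter fun y => inv2 x y == inv2 codeV codeW).map fun y => (x, y)).flatten

theorem cand_mem : candT.length = candIdx.length ∧
    (candT.zip candIdx).all (fun c =>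
      Nat.blt c.2 grpT.length && ((grpT.getD c.2 ((0, 0), [])).1 == c.1)) = true := by
  decide +kernel

theorem grp_base : grpT.head? = some ((codeV, codeW), [0, 1, 2, 3, 4]) ∧
    grpT.length = grpSteps.length + 1 ∧ codeV < 256 ∧ codeW < 256 := by
  decide +kernel

theorem grp_steps : ((grpT.drop 1).zip (grpSteps.zip (List.range 299))).all (fun c =>
    Nat.blt c.2.1.1 (c.2.2 + 1) && Nat.blt c.2.1.2 3 &&
      (c.1 == ((genN c.2.1.2 (grpT.getD c.2.1.1 ((0, 0), [])).1.1,
          genN c.2.1.2 (grpT.getD c.2.1.1 ((0, 0), [])).1.2),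
        (grpT.getD c.2.1.1 ((0, 0), [])).2.map fun i => (permT.getD c.2.1.2 []).getD i 0))) = true := by
  decide +kernel

theorem grp_kernel : grpT.all (fun c => !(c.2 == [0, 1, 2, 3, 4]) ||
    (((orbA codeV).zip (orbA codeW)).contains c.1)) = true := by
  decide +kernel

theorem span_ok :
    (List.range 256).all (fun v => (spanN (orbA codeV ++ orbA codeW)).contains v) = true := by
  decide +kernel

theorem perm_distinct : perm60.length = 60 ∧
    (perm60.map fun n => (grpT.getD n ((0, 0), [])).2).Nodup ∧
    perm60.all (fun n => Nat.blt n grpT.length) = true := by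
  decide +kernel

theorem perm_facts :
    (∀ k : Fin 3, (permT.getD k.val []).length = 5 ∧
      ∀ i : Fin 5, (permT.getD k.val []).getD i.val 0 < 5) ∧
    permT.getD 0 [] = [0, 1, 2, 3, 4] ∧
    (∀ k : Fin 3, ∀ i : Fin 5, ∀ x ∈ spaceT.getD i.val [],
      (spaceT.getD ((permT.getD k.val []).getD i.val 0) []).contains (genN k.val x) = true) ∧
    (∀ i : Fin 5, ∀ x ∈ spaceT.getD i.val [], x < 256) ∧
    (∀ i : Fin 5, ∃ x ∈ spaceT.getD i.val [], ∀ j : Fin 5,
      x ∈ spaceT.getD j.val [] → j = i) := by
  decide +kernel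

end Cfsg.Agent.Leech.Sec5
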