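import Cfsg.Agent.Lib.Leech.Sec5.Group
import Cfsg.Agent.J2Fusion14.Shape
import Cfsg.Agent.J2Fusion14.Simple
import Cfsg.Agent.S0824

/-!
# The section of `Co₀` centralizing an element of order five is of Hall–Janko type
-/

set_option autoImplicit false
set_option maxRecDepth 100000
set_option maxHeartbeats 2000000

namespace Cfsg.Agent.Leech.Sec5

open Cfsg Cfsg.Agent.Reflections Cfsg.Agent.Leech.Co1Cent
open Cfsg.Agent.Golay (idx pt toSet octadO idx_lt pt_idx idx_pt)

/-- The element. -/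
noncomputable def aA : Co0 := wordEl aW

theorem aA_pow_five : aA ^ 5 = 1 := by
  have ok : aW.all okStep = true := gen_ok0.1
  have h := wordEl_ext (w := aW ++ aW ++ aW ++ aW ++ aW) (w' := [])
    (by simp only [List.all_append, ok]; rfl) rfl a_five
  rw [wordEl_append, wordEl_append, wordEl_append, wordEl_append] at h
  rw [aA, show (5 : ℕ) = 1 + 1 + 1 + 1 + 1 from rfl, pow_add, pow_add, pow_add, pow_add, pow_one]
  exact h

theorem aA_ne : aA ≠ 1 := by
  intro h
  have hv : (frame (pt 23) : GolayPt → ℤ) = vecL (frameL 23) := by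
    have := funext (vecL_frameL (pt 23))
    rwa [idx_pt (by norm_num)] at this
  have h1 := coe_wordEl aW gen_ok0.1 _ _ hv
  rw [show wordEl aW = 1 from h, one_smul] at h1
  refine a_ne ?_
  rw [← congrFun h1 (pt 23)]
  simp [frame]

theorem orderOf_aA : orderOf aA = 5 :=
  haveI : Fact (Nat.Prime 5) := ⟨by norm_num⟩
  orderOf_eq_prime aA_pow_five aA_ne

/-- The subgroup of order five. -/
noncomputable def A5g : Subgroup ↥Co0 := Subgroup.zpowers aA

theorem card_A5g : Nat.card A5g = 5 := by rw [A5g, Nat.card_zpowers, orderOf_aA]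

/-- Its centralizer. -/
noncomputable abbrev HA : Subgroup ↥Co0 := Subgroup.centralizer (A5g : Set ↥Co0)

theorem mem_HA {g : Co0} : g ∈ HA ↔ g * aA = aA * g := by
  constructor
  · intro h
    exact (Subgroup.mem_centralizer_iff.1 h aA (Subgroup.mem_zpowers aA : aA ∈ A5g)).symm
  · intro h
    refine Subgroup.mem_centralizer_iff.2 fun y hy => ?_
    obtain ⟨k, rfl⟩ := Subgroup.mem_zpowers_iff.1 hy
    exact ((show Commute g aA from h).zpow_right k).eq.symm

/-- The subgroup to factor out. -/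
noncomputable abbrev NA : Subgroup ↥HA := (A5g ⊔ Subgroup.center ↥Co0).subgroupOf HA

theorem NA_le_center : NA ≤ Subgroup.center ↥HA := by
  intro x hx
  rw [Subgroup.mem_center_iff]
  intro y
  have hle : A5g ⊔ Subgroup.center ↥Co0 ≤ Subgroup.centralizer (HA : Set ↥Co0) :=
    sup_le (Subgroup.le_centralizer_iff.1 le_rfl) (Subgroup.center_le_centralizer _)
  exact Subtype.ext (Subgroup.mem_centralizer_iff.1 (hle hx) y.1 y.2)

instance NA_normal : NA.Normal :=
  ⟨fun n hn g => by rwa [Subgroup.mem_center_iff.1 (NA_le_center hn) g, mul_inv_cancel_right]⟩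

theorem mem_NA {x : ↥HA} : x ∈ NA ↔ ∃ n : ℕ, x.1 = aA ^ n ∨ x.1 = negOne * aA ^ n := by
  show x.1 ∈ A5g ⊔ Subgroup.center ↥Co0 ↔ _
  constructor
  · intro h
    obtain ⟨a, ha, c, hc, e⟩ := Subgroup.mem_sup_of_normal_right.1 h
    obtain ⟨n, rfl⟩ : ∃ n : ℕ, aA ^ n = a := by
      obtain ⟨k, rfl⟩ := Subgroup.mem_zpowers_iff.1 ha
      refine ⟨(k % 5).toNat, ?_⟩
      rw [← zpow_natCast, Int.toNat_of_nonneg (Int.emod_nonneg _ (by norm_num)),
        show (5 : ℤ) = (orderOf aA : ℤ) by rw [orderOf_aA]; rfl, zpow_mod_orderOf]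
    refine ⟨n, ?_⟩
    rcases center_eq_or c hc with rfl | rfl
    · exact Or.inl (by rw [← e, mul_one])
    · exact Or.inr (by rw [← e, Subgroup.mem_center_iff.1 negOne_mem_center])
  · rintro ⟨n, h | h⟩
    · rw [h]; exact Subgroup.mem_sup_left (Subgroup.pow_mem _ (Subgroup.mem_zpowers _) n)
    · rw [h]
      exact mul_mem (Subgroup.mem_sup_right negOne_mem_center)
        (Subgroup.mem_sup_left (Subgroup.pow_mem _ (Subgroup.mem_zpowers _) n))

/-- The section. -/
abbrev S5 : Type := ↥HA ⧸ NA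

/-- The inclusion. -/
noncomputable def incl : ↥H0 →* ↥HA where
  toFun g := ⟨g.1.1, mem_HA.2 (congrArg Subtype.val (mem_H0.1 g.2))⟩
  map_one' := rfl
  map_mul' _ _ := rfl

theorem epsO_mem : epsO ∈ C0 := mem_C0.2 rfl

/-- The involution in the centralizer. -/
noncomputable def epsH : ↥H0 :=
  ⟨⟨epsO, epsO_mem⟩, mem_H0.2 (Subtype.ext (mem_C0.1 aC.2).symm)⟩

/-- The involution of the section. -/
noncomputable def zS : S5 := QuotientGroup.mk' NA (incl epsH)

theorem pow_two_cases {n : ℕ} {u : Co0} (h : u = aA ^ n ∨ u = negOne * aA ^ n) (h2 : u * u = 1) :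
    aA ^ n = 1 := by
  have hn : negOne * negOne = 1 := by
    refine ext_frame fun i => ?_
    rw [mul_smul, negOne_smul, negOne_smul, neg_neg, one_smul]
  have hsq : aA ^ n * aA ^ n = 1 := by
    rcases h with rfl | rfl
    · exact h2
    · have hc : Commute (aA ^ n) negOne := Subgroup.mem_center_iff.1 negOne_mem_center _
      rw [mul_assoc, ← mul_assoc (aA ^ n), hc.eq, mul_assoc, ← mul_assoc negOne, hn, one_mul] at h2
      exact h2
  have h5 : (aA ^ n) ^ 5 = 1 := by rw [← pow_mul, mul_comm, pow_mul, aA_pow_five, one_pow]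
  calc aA ^ n = (aA ^ n) ^ 5 * ((aA ^ n * aA ^ n) * (aA ^ n * aA ^ n))⁻¹ := by group
    _ = 1 := by simp [h5, hsq]

theorem orderOf_zS : orderOf zS = 2 := by
  refine orderOf_eq_prime ?_ ?_
  · rw [zS, ← map_pow, ← map_pow, pow_two]
    convert map_one ((QuotientGroup.mk' NA).comp incl) using 2
    rw [MonoidHom.comp_apply]
    congr 2
    exact Subtype.ext (Subtype.ext epsO_sq)
  · intro h
    rw [zS, QuotientGroup.mk'_apply, QuotientGroup.eq_one_iff, mem_NA] at h
    obtain ⟨n, hn⟩ := h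
    have h1 := pow_two_cases hn epsO_sq
    have hz := orderOf_zC
    have : mk1 epsO = 1 := by
      rw [← map_one mk1, mk1_eq_iff]
      have hee : (incl epsH : Co0) = epsO := rfl
      rcases hn with e | e <;> rw [hee, h1] at e
      · exact Or.inl e.symm
      · refine Or.inr ?_
        rw [e, mul_one]
        refine ext_frame fun i => ?_
        rw [mul_smul, negOne_smul, negOne_smul, neg_neg, one_smul]
    rw [zC, this, orderOf_one] at hz
    norm_num at hz

/-- The centralizer of the involution. -/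
noncomputable abbrev CS : Subgroup S5 := Subgroup.centralizer ({zS} : Set S5)

theorem incl_mem (g : ↥H0) : QuotientGroup.mk' NA (incl g) ∈ CS := by
  rw [Subgroup.mem_centralizer_singleton_iff, zS, ← map_mul, ← map_mul, ← map_mul, ← map_mul]
  exact congrArg (fun x => QuotientGroup.mk' NA (incl x))
    (Subtype.ext (Subtype.ext (mem_C0.1 g.1.2)))

/-- The covering map. -/
noncomputable def phi : ↥H0 →* ↥CS :=
  ((QuotientGroup.mk' NA).comp incl).codRestrict _ incl_mem

theorem phi_surjective : Function.Surjective phi := by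
  rintro ⟨x, hx⟩
  obtain ⟨g, rfl⟩ := QuotientGroup.mk'_surjective _ x
  rw [Subgroup.mem_centralizer_singleton_iff, zS, ← map_mul, ← map_mul] at hx
  rw [QuotientGroup.mk'_eq_mk'] at hx
  obtain ⟨u, hu, he⟩ := hx
  have he' : g.1 * epsO * u.1 = epsO * g.1 := congrArg Subtype.val he
  obtain ⟨n, hn⟩ := mem_NA.1 hu
  have hcen : ∀ y ∈ HA, y * u.1 = u.1 * y := fun y hy =>
    congrArg Subtype.val (Subgroup.mem_center_iff.1 (NA_le_center hu) ⟨y, hy⟩)
  have hsq : u.1 * u.1 = 1 := by
    have e1 : g.1⁻¹ * epsO * g.1 = epsO * u.1 := by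
      rw [mul_assoc, ← he']; group
    have e2 : (g.1⁻¹ * epsO * g.1) * (g.1⁻¹ * epsO * g.1) = 1 := by
      rw [show (g.1⁻¹ * epsO * g.1) * (g.1⁻¹ * epsO * g.1) = g.1⁻¹ * (epsO * epsO) * g.1 by group,
        epsO_sq]
      group
    rw [e1, mul_assoc, ← mul_assoc u.1, ← hcen epsO (incl epsH).2, mul_assoc epsO,
      ← mul_assoc epsO epsO, epsO_sq, one_mul] at e2
    exact e2
  have h1 := pow_two_cases hn hsq
  rcases hn with e | e <;> rw [e, h1] at he'
  · rw [mul_one] at he'
    have hC : g.1 ∈ C0 := mem_C0.2 he'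
    have hH : (⟨g.1, hC⟩ : ↥C0) ∈ H0 := mem_H0.2 (Subtype.ext (mem_HA.1 g.2))
    exact ⟨⟨⟨g.1, hC⟩, hH⟩, rfl⟩
  · refine absurd ?_ (not_anticommute g.1)
    rw [mul_one] at he'
    rw [← he', ← Subgroup.mem_center_iff.1 negOne_mem_center (g.1 * epsO * negOne), mul_assoc,
      show negOne * negOne = 1 from ext_frame fun i => by
        rw [mul_smul, negOne_smul, negOne_smul, neg_neg, one_smul], mul_one]

theorem phi_eq_one {g : ↥H0} :
    phi g = 1 ↔ ∃ n : ℕ, g.1 = aC ^ n ∨ g.1 = negC * aC ^ n := by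
  rw [Subtype.ext_iff]
  show QuotientGroup.mk' NA (incl g) = 1 ↔ _
  rw [QuotientGroup.mk'_apply, QuotientGroup.eq_one_iff, mem_NA]
  refine exists_congr fun n => or_congr ?_ ?_
  · exact ⟨fun h => Subtype.ext (h.trans (SubmonoidClass.coe_pow aC n).symm),
      fun h => (congrArg Subtype.val h).trans (SubmonoidClass.coe_pow aC n)⟩
  · exact ⟨fun h => Subtype.ext (h.trans (congrArg (negOne * ·) (SubmonoidClass.coe_pow aC n).symm)),
      fun h => (congrArg Subtype.val h).trans (congrArg (negOne * ·) (SubmonoidClass.coe_pow aC n))⟩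

theorem piA_pow (n : ℕ) (h : aC ^ n ∈ H0) : piA ⟨aC ^ n, h⟩ = 1 := by
  have : (⟨aC ^ n, h⟩ : ↥H0) = ⟨aC, gC_mem 0⟩ ^ n := rfl
  rw [this, map_pow, piA_aC, one_pow]

theorem phi_ker_le : phi.ker ≤ piA.ker := by
  intro g hg
  obtain ⟨n, h⟩ := phi_eq_one.1 hg
  rw [MonoidHom.mem_ker]
  have hpm : aC ^ n ∈ H0 := H0.pow_mem (gC_mem 0) n
  rcases h with h | h
  · rw [show g = ⟨aC ^ n, hpm⟩ from Subtype.ext h]
    exact piA_pow n hpm
  · have hneg : negC ∈ H0 :=
      mem_H0.2 (Subtype.ext (Subgroup.mem_center_iff.1 negOne_mem_center _).symm)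
    rw [show g = ⟨negC, hneg⟩ * ⟨aC ^ n, hpm⟩ from Subtype.ext h, map_mul, piA_pow,
      piA_ker (g := ⟨negC, hneg⟩) rep8_negC, one_mul]

/-- The centralizer acts as the alternating group of degree five. -/
noncomputable def psiS : ↥CS →* alternatingGroup (Fin 5) :=
  phi.liftOfSurjective phi_surjective ⟨piA, phi_ker_le⟩

theorem psiS_phi (g : ↥H0) : psiS (phi g) = piA g :=
  MonoidHom.liftOfRightInverse_comp_apply _ _ _ _ g

theorem psiS_surjective : Function.Surjective psiS := fun a => by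
  obtain ⟨g, rfl⟩ := piA_surjective a
  exact ⟨phi g, psiS_phi g⟩

/-- The normal subgroup of order 32. -/
noncomputable def Q5 : Subgroup ↥CS := psiS.ker

instance Q5_normal : Q5.Normal := psiS.normal_ker

/-- The part of the centralizer acting trivially modulo 2. -/
noncomputable def K0 : Subgroup ↥H0 := (rep8.comp H0.subtype).ker

theorem mem_K0 {g : ↥H0} : g ∈ K0 ↔ rep8 g.1 = 1 := MonoidHom.mem_ker

theorem aC_rep_pow {n : ℕ} (h : rep8 (aC ^ n) = 1) : aC ^ n = 1 := by
  by_contra hne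
  have h1 : rep8 aC = 1 := by
    have h5 : aC ^ 5 = 1 := Subtype.ext ((SubmonoidClass.coe_pow aC 5).trans aA_pow_five)
    have hn5 : Nat.Coprime n 5 := by
      rw [Nat.coprime_comm, Nat.Prime.coprime_iff_not_dvd (by norm_num)]
      rintro ⟨m, rfl⟩
      exact hne (by rw [pow_mul, h5, one_pow])
    obtain ⟨m, hm⟩ : ∃ m, n * m % 5 = 1 := by
      have h0 : n % 5 ≠ 0 := by
        intro h0
        have h55 : 5 ∣ Nat.gcd n 5 := Nat.dvd_gcd (Nat.dvd_of_mod_eq_zero h0) dvd_rfl
        rw [hn5] at h55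
        norm_num at h55
      rcases (show n % 5 = 1 ∨ n % 5 = 2 ∨ n % 5 = 3 ∨ n % 5 = 4 by omega) with c | c | c | c
      exacts [⟨1, by omega⟩, ⟨3, by omega⟩, ⟨2, by omega⟩, ⟨4, by omega⟩]
    have e : aC = (aC ^ n) ^ m := by
      rw [← pow_mul, ← Nat.mod_add_div (n * m) 5, hm, pow_add, pow_mul, h5, one_pow, mul_one, pow_one]
    rw [e, map_pow, h, one_pow]
  obtain ⟨hV, -⟩ := grp_base.2.2
  have h2 := act_gC 0 hV
  rw [show gC 0 = aC from rfl, h1, Reflections.act_one] at h2
  have h3 := vb_inj hV (genN_lt 0 ⟨_, hV⟩) h2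
  have h4 : genN 0 codeV ≠ codeV := by decide +kernel
  exact h4 h3.symm

theorem phi_eq_one_K0 {g : ↥H0} (hg : g ∈ K0) : phi g = 1 ↔ cov g.1 = 1 := by
  rw [phi_eq_one]
  constructor
  · rintro ⟨n, h⟩
    have hr : rep8 (aC ^ n) = 1 := by
      rcases h with h | h
      · rw [← h]; exact mem_K0.1 hg
      · have := mem_K0.1 hg
        rwa [h, map_mul, rep8_negC, one_mul] at this
    rw [aC_rep_pow hr, mul_one] at h
    rcases h with h | h
    · rw [h, map_one]
    · rw [h, ← map_one cov, cov_eq_iff]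
      refine Or.inr ?_
      refine Subtype.ext (ext_frame fun i => ?_)
      show (1 : Co0) • frame i = (negOne * negOne) • frame i
      rw [mul_smul, negOne_smul, negOne_smul, neg_neg, one_smul]
  · intro h
    refine ⟨0, ?_⟩
    rw [pow_zero, mul_one]
    rw [← map_one cov, cov_eq_iff] at h
    rcases h with h | h
    · exact Or.inl h.symm
    · refine Or.inr ?_
      have h1 : negC * negC = 1 := Subtype.ext (ext_frame fun i => by
        show (negOne * negOne) • frame i = (1 : Co0) • frame i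
        rw [mul_smul, negOne_smul, negOne_smul, neg_neg, one_smul])
      calc g.1 = negC * (negC * g.1) := by rw [← mul_assoc, h1, one_mul]
        _ = negC := by rw [← h, mul_one]

/-- Onto the normal subgroup. -/
noncomputable def toQ5 : ↥K0 →* ↥Q5 :=
  (phi.comp K0.subtype).codRestrict _ fun g => by
    show psiS (phi g.1) = 1
    rw [psiS_phi]
    exact piA_ker (mem_K0.1 g.2)

theorem toQ5_surjective : Function.Surjective toQ5 := by
  rintro ⟨x, hx⟩
  obtain ⟨g, rfl⟩ := phi_surjective x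
  have h1 : piA g = 1 := (psiS_phi g).symm.trans hx
  obtain ⟨n, hn⟩ := piA_eq_one h1
  have hpm : aC ^ n ∈ H0 := H0.pow_mem (gC_mem 0) n
  refine ⟨⟨g * (⟨aC ^ n, hpm⟩ : ↥H0)⁻¹, mem_K0.2 (by
    rw [Subgroup.coe_mul, Subgroup.coe_inv, map_mul, map_inv, hn, mul_inv_cancel])⟩, Subtype.ext ?_⟩
  show phi (g * (⟨aC ^ n, hpm⟩ : ↥H0)⁻¹) = phi g
  rw [map_mul, map_inv, (phi_eq_one (g := (⟨aC ^ n, hpm⟩ : ↥H0))).2 ⟨n, Or.inl rfl⟩, inv_one,
    mul_one]

/-- Into the centralizer in `Co₁`. -/
noncomputable def toC1 : ↥K0 →* ↥C1 := cov.comp (H0.subtype.comp K0.subtype)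

theorem toC1_ker : toC1.ker = toQ5.ker := by
  ext g
  rw [MonoidHom.mem_ker, MonoidHom.mem_ker, Subtype.ext_iff (a1 := toQ5 g)]
  exact (phi_eq_one_K0 g.2).symm

theorem Q5_equiv : Nonempty (↥toC1.range ≃* ↥Q5) :=
  ⟨((QuotientGroup.quotientKerEquivRange toC1).symm.trans
    (QuotientGroup.quotientMulEquivOfEq toC1_ker)).trans
    (QuotientGroup.quotientKerEquivOfSurjective toQ5 toQ5_surjective)⟩

theorem el_comm_iff (i : Fin 16) (j : Fin 32) : el i j * aC = aC * el i j ↔ cK i j = true := by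
  have key : ∀ p q : GolayPt,
      (((el i j).1 • (aA • frame p) : leechLattice) : GolayPt → ℤ) q =
        sgnB ((maskN j).testBit (idx q)) (aEnt (idx p) ((tabN i).getD (idx q) 0)) ∧
      ((aA • ((el i j).1 • frame p) : leechLattice) : GolayPt → ℤ) q =
        sgnB ((maskN j).testBit ((tabN i).getD (idx p) 0))
          (aEnt ((tabN i).getD (idx p) 0) (idx q)) := by
    intro p q
    have hrow : ∀ r : GolayPt,
        ((aA • frame r : leechLattice) : GolayPt → ℤ) = vecL (aImg.getD (idx r) []) := by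
      intro r
      rw [aA, coe_wordEl aW gen_ok0.1 (frame r) (frameL (idx r)) (funext (vecL_frameL r))]
      exact aImg_eq ⟨idx r, idx_lt r⟩
    have hs : ∀ r, (sigT i).1 r = pt ((tabN i).getD (idx r) 0) := fun r => (tab_sigT i).apply r
    have hlt : ∀ r, (tabN i).getD (idx r) 0 < 24 := fun r => (tab_sigT i).lt (idx_lt r)
    have hsy : (sigT i).1.symm q = (sigT i).1 q := by
      rw [Equiv.symm_apply_eq]
      have := congrArg (fun σ : M24 => σ.1 q) (sigT_sq i)
      simpa using this.symm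
    constructor
    · show ((mono (sigT i) (code_mask j) • (aA • frame p) : leechLattice) : GolayPt → ℤ) q = _
      rw [coe_mono_smul, hrow]
      simp only [signedPerm, hsy, hs q, vecL, idx_pt (hlt q), Golay.mem_toSet]
      rfl
    · have hfr : (el i j).1 • frame p = if (sigT i).1 p ∈ toSet (maskN j)
          then -frame ((sigT i).1 p) else frame ((sigT i).1 p) := by
        refine Subtype.ext ?_
        show ((mono (sigT i) (code_mask j) • frame p : leechLattice) : GolayPt → ℤ) = _
        rw [coe_mono_frame]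
        split_ifs <;> simp [frame, ← Pi.single_neg]
      rw [hfr]
      simp only [hs p, Golay.mem_toSet, idx_pt (hlt p)]
      cases hb : (maskN j).testBit ((tabN i).getD (idx p) 0)
      · rw [if_neg (by decide), hrow, idx_pt (hlt p)]
        rfl
      · rw [if_pos rfl, smul_neg', AddSubgroup.coe_neg, Pi.neg_apply, hrow, idx_pt (hlt p)]
        rfl
  constructor
  · intro h
    simp only [cK, ← kTab_eq, ← kMask_eq, List.all_eq_true, List.mem_reverse, List.mem_range, beq_iff_eq]
    intro p hp q hq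
    have h1 := congrArg (fun x : ↥C0 => ((x.1 • frame (pt p) : leechLattice) : GolayPt → ℤ) (pt q)) h
    simp only [Subgroup.coe_mul, mul_smul] at h1
    rw [show (aC : Co0) = aA from rfl, (key _ _).1, (key _ _).2, idx_pt hp, idx_pt hq] at h1
    exact h1
  · intro h
    simp only [cK, ← kTab_eq, ← kMask_eq, List.all_eq_true, List.mem_reverse, List.mem_range, beq_iff_eq] at h
    refine Subtype.ext (ext_frame fun p => Subtype.ext (funext fun q => ?_))
    rw [Subgroup.coe_mul, Subgroup.coe_mul, mul_smul, mul_smul, show (aC : Co0) = aA from rfl,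
      (key _ _).1, (key _ _).2]
    exact h _ (idx_lt p) _ (idx_lt q)

/-- An element of the kernel part. -/
noncomputable def kel (i : Fin 16) (j : Fin 32) (h : cK i j = true) : ↥K0 :=
  ⟨⟨el i j, mem_H0.2 ((el_comm_iff i j).2 h)⟩, mem_K0.2 (MonoidHom.mem_ker.1 (el_mem i j))⟩

theorem toC1_kel (i : Fin 16) (j : Fin 32) (h : cK i j = true) :
    toC1 (kel i j h) = (q9 (i, j) : ↥C1) := rfl

theorem range_spec {x : ↥C1} (hx : x ∈ toC1.range) :
    ∃ i j, cK i j = true ∧ x = (q9 (i, j) : ↥C1) := by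
  obtain ⟨g, rfl⟩ := hx
  obtain ⟨i, j, e⟩ := mem_ker_iff (g := g.1.1) (MonoidHom.mem_ker.2 (mem_K0.1 g.2))
  have hg := mem_H0.1 g.1.2
  have hneg : ∀ y : ↥C0, negC * y = y * negC := fun y =>
    Subtype.ext (Subgroup.mem_center_iff.1 negOne_mem_center _).symm
  rcases e with e | e
  · refine ⟨i, j, (el_comm_iff i j).1 (e ▸ hg), ?_⟩
    show cov g.1.1 = cov (el i j)
    rw [e]
  · refine ⟨i, j, (el_comm_iff i j).1 ?_, ?_⟩
    · rw [e, mul_assoc, ← mul_assoc aC, ← hneg aC, mul_assoc] at hg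
      exact mul_left_cancel hg
    · show cov g.1.1 = cov (el i j)
      exact (cov_eq_iff.2 (Or.inr e)).symm

theorem card_range : Nat.card toC1.range = 32 := by
  let f : {x : Fin 16 × Fin 32 // cK x.1 x.2 = true} → ↥toC1.range := fun x =>
    ⟨(q9 x.1 : ↥C1), kel x.1.1 x.1.2 x.2, rfl⟩
  have hf : Function.Bijective f := by
    refine ⟨fun a b e => Subtype.ext (q9_bijective.1 (Subtype.ext ?_)), fun x => ?_⟩
    · exact congrArg (fun y : ↥toC1.range => (y : ↥C1)) e
    · obtain ⟨i, j, h, e⟩ := range_spec x.2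
      exact ⟨⟨(i, j), h⟩, Subtype.ext e.symm⟩
  rw [← Nat.card_congr (Equiv.ofBijective f hf), Nat.card_eq_fintype_card, Fintype.card_subtype]
  exact kernel_facts

theorem card_Q5 : Nat.card Q5 = 32 := by
  obtain ⟨e⟩ := Q5_equiv
  rw [← Nat.card_congr e.toEquiv, card_range]

theorem centre_facts : ∀ (i : Fin 16) (j : Fin 32), cK i j = true →
    (∀ (i' : Fin 16) (j' : Fin 32), cK i' j' = false ∨
      maskN j ^^^ imgMask (tabN i) (maskN j') = maskN j' ^^^ imgMask (tabN i') (maskN j)) →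
    tabN i = Golay.idTab ∧ (maskN j = 0 ∨ maskN j = ocMask) := by
  simp only [kTab_eq, kMask_eq]
  decide +kernel

theorem noncomm_facts : ∃ (i : Fin 16) (j : Fin 32) (i' : Fin 16) (j' : Fin 32),
    maskN j ^^^ imgMask (tabN i) (maskN j') ≠ maskN j' ^^^ imgMask (tabN i') (maskN j) ∧
      cK i j = true ∧ cK i' j' = true := by
  simp only [kTab_eq, kMask_eq]
  decide +kernel

theorem zC_facts : cK i0 jc = true := by
  rw [← el_comm_iff]
  refine Subtype.ext ?_
  have h : (el i0 jc).1 = negOne * epsO := by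
    rcases mk1_eq_iff.1 (show mk1 (el i0 jc).1 = mk1 epsO from coe_wQ) with e | e
    · exfalso
      have := smul_epsO_frame' none_mem_octO
      rw [e] at this
      have h0 : ((el i0 jc).1 • frame none : leechLattice) = frame none := by
        refine Subtype.ext ?_
        show ((mono (sigT i0) (code_mask jc) • frame none : leechLattice) : GolayPt → ℤ) = _
        have hn : (none : GolayPt) ∉ toSet (maskN jc) :=
          fun hh => disjoint_mask (maskN_spec jc).2 none hh none_mem_octO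
        rw [coe_mono_frame, sigT_i0]
        show (Pi.single (none : GolayPt) (if (none : GolayPt) ∈ toSet (maskN jc) then (-8 : ℤ) else 8) :
          GolayPt → ℤ) = _
        rw [if_neg hn]
        rfl
      rw [h0] at this
      exact frame_ne_neg none this.symm
    · rw [e, ← mul_assoc, show negOne * negOne = 1 from ext_frame fun i => by
        rw [mul_smul, negOne_smul, negOne_smul, neg_neg, one_smul], one_mul]
  show (el i0 jc).1 * aC.1 = aC.1 * (el i0 jc).1
  rw [h, mul_assoc, ← mem_C0.1 aC.2, ← mul_assoc, ← mul_assoc,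
    Subgroup.mem_center_iff.1 negOne_mem_center aC.1]

theorem range_extraspecial : Cfsg.IsExtraspecial 2 toC1.range := by
  haveI : Finite ↥toC1.range := Nat.finite_of_card_ne_zero (by rw [card_range]; norm_num)
  have hle : toC1.range ≤ QC := by
    intro x hx
    obtain ⟨i, j, -, rfl⟩ := range_spec hx
    exact (q9 (i, j)).2
  let ι : ↥toC1.range →* ↥QC := Subgroup.inclusion hle
  have hι : Function.Injective ι := Subgroup.inclusion_injective hle
  let w : ↥toC1.range := ⟨(wQ : ↥C1), kel i0 jc zC_facts, rfl⟩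
  have hw : ι w = wQ := rfl
  have hback : ∀ x : ↥toC1.range, ι x ∈ Subgroup.zpowers wQ → x ∈ Subgroup.zpowers w := by
    intro x hx
    obtain ⟨n, hn⟩ := Subgroup.mem_zpowers_iff.1 hx
    exact Subgroup.mem_zpowers_iff.2 ⟨n, hι (by rw [map_zpow, hw, hn])⟩
  refine LargeExtraspecial.isExtraspecial_of (c := w)
    (IsPGroup.of_card (n := 5) (by rw [card_range]; rfl)) (fun h => wQ_ne (by rw [← hw, h, map_one]))
    (hι ?_) (fun x => ?_) (fun x hx => ?_) (fun x y => hback _ ?_) (fun x => hback _ ?_) ?_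
  · rw [map_mul, hw, map_one]
    refine Subtype.ext (Subtype.ext ?_)
    show ((wQ : ↥C1) : Spor.Co1) * ((wQ : ↥C1) : Spor.Co1) = 1
    rw [coe_wQ, ← pow_two, ← orderOf_zC, pow_orderOf_eq_one]
  · exact hι (by rw [map_mul, map_mul, hw, (wQ_central _).eq])
  · obtain ⟨i, j, hij, e⟩ := range_spec x.2
    have hex : ι x = q9 (i, j) := Subtype.ext e
    obtain ⟨hi, hj⟩ := centre_facts i j hij fun i' j' => by
      cases hc : cK i' j'
      · exact Or.inl rfl
      · refine Or.inr (commute_facts ?_)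
        have h := congrArg ι (hx ⟨(q9 (i', j') : ↥C1), kel i' j' hc, rfl⟩).eq
        rw [map_mul, map_mul, hex] at h
        exact h
    refine hback x ?_
    rw [hex]
    have hii : i = i0 := tab_facts.2.1 (hi.trans tab_i0.symm)
    subst hii
    rcases hj with hj | hj
    · rw [tab_facts.2.2.1 (hj.trans mask_j0.symm), q9_eq_one]; exact one_mem _
    · rw [tab_facts.2.2.1 (hj.trans mask_jc.symm)]; exact Subgroup.mem_zpowers _
  · rw [map_commutatorElement]; exact comm_mem _ _
  · rw [map_mul]; exact sq_mem _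
  · obtain ⟨i, j, i', j', hne, hc, hc'⟩ := noncomm_facts
    refine ⟨⟨(q9 (i, j) : ↥C1), kel i j hc, rfl⟩, ⟨(q9 (i', j') : ↥C1), kel i' j' hc', rfl⟩,
      fun h => hne (commute_facts ?_)⟩
    rw [commutatorElement_eq_one_iff_commute] at h
    exact h.map ι

theorem Q5_extraspecial : Cfsg.IsExtraspecial 2 Q5 := by
  obtain ⟨e⟩ := Q5_equiv
  exact LargeExtraspecial.isExtraspecial_equiv e range_extraspecial

/-- The quotient. -/
noncomputable def quotA5 : ↥CS ⧸ Q5 ≃* alternatingGroup (Fin 5) :=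
  QuotientGroup.quotientKerEquivOfSurjective psiS psiS_surjective

end Cfsg.Agent.Leech.Sec5
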