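import Cfsg.Agent.Lib.Leech.Sec5.Words

/-!
# Tables for the centralizer of an element of order five in `Co₀`
-/

set_option autoImplicit false

namespace Cfsg.Agent.Leech.Sec5

/-- The element of order five. -/
def aW : List Step := [
    some ([0, 1, 2, 3, 4, 5, 6, 7, 8, 9, 10, 11, 12, 13, 14, 15, 16, 17, 18, 19, 20, 21, 22, 23], 2290517),
    none,
    some ([2, 1, 5, 23, 21, 0, 6, 4, 11, 8, 20, 9, 12, 13, 14, 15, 19, 3, 10, 22, 18, 7, 16, 17], 0)]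

/-- An element of the centralizer. -/
def g1W : List Step := [
    some ([2, 23, 3, 0, 21, 17, 13, 4, 6, 15, 9, 11, 8, 18, 5, 16, 12, 1, 19, 20, 22, 10, 7, 14], 15660888),
    none,
    some ([5, 2, 0, 17, 10, 14, 13, 19, 9, 18, 15, 22, 7, 4, 3, 21, 6, 1, 12, 20, 16, 8, 11, 23], 7531057),
    none,
    some ([0, 1, 3, 2, 8, 17, 7, 16, 21, 4, 19, 12, 15, 6, 14, 20, 13, 5, 22, 18, 11, 9, 10, 23], 9626467),
    none,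
    some ([2, 3, 5, 0, 22, 1, 9, 4, 19, 16, 20, 13, 15, 7, 17, 21, 11, 23, 18, 12, 8, 6, 10, 14], 5749211),
    none,
    some ([5, 2, 14, 1, 15, 17, 18, 10, 19, 21, 4, 6, 16, 9, 3, 7, 8, 23, 22, 12, 13, 20, 11, 0], 3304888),
    none,
    some ([0, 3, 1, 17, 13, 2, 6, 16, 10, 20, 12, 15, 11, 22, 23, 9, 19, 14, 18, 21, 8, 4, 7, 5], 779371)]

/-- A further element of the centralizer. -/
def g2W : List Step := [
    some ([14, 1, 0, 23, 18, 3, 22, 4, 7, 19, 21, 9, 10, 16, 2, 20, 13, 17, 6, 12, 15, 11, 8, 5], 13494533),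
    none,
    some ([23, 17, 1, 14, 12, 2, 20, 19, 18, 15, 21, 4, 11, 13, 3, 6, 8, 0, 16, 7, 10, 9, 22, 5], 11114125),
    none,
    some ([2, 3, 23, 5, 9, 14, 6, 20, 7, 22, 18, 13, 11, 8, 17, 19, 4, 1, 15, 16, 10, 12, 21, 0], 3525895),
    none,
    some ([3, 0, 17, 2, 18, 1, 13, 15, 10, 4, 9, 6, 12, 16, 14, 11, 20, 23, 22, 8, 7, 21, 19, 5], 4747991),
    none,
    some ([0, 3, 14, 17, 15, 2, 12, 11, 7, 21, 19, 4, 22, 8, 5, 13, 18, 1, 6, 10, 16, 9, 20, 23], 13047522)]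

/-- An element permuting a trio. -/
def tauW : List Step := [
    some ([10, 15, 20, 11, 23, 18, 14, 3, 21, 4, 22, 7, 6, 1, 12, 13, 2, 8, 19, 5, 16, 17, 0, 9], 0)]

/-- The images modulo 2. -/
def colsT : List (List ℕ) := [[32, 148, 185, 144, 18, 64, 128, 225], [245, 32, 217, 5, 161, 170, 165, 56], [225, 185, 74, 45, 9, 1, 32, 64]]

/-- The five invariant totally singular subspaces. -/
def spaceT : List (List ℕ) := [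
    [0, 1, 32, 33, 64, 65, 96, 97, 128, 129, 160, 161, 192, 193, 224, 225],
    [0, 2, 16, 18, 72, 74, 88, 90, 132, 134, 148, 150, 204, 206, 220, 222],
    [0, 3, 4, 7, 9, 10, 13, 14, 176, 179, 180, 183, 185, 186, 189, 190],
    [0, 12, 22, 26, 37, 41, 51, 63, 195, 207, 213, 217, 230, 234, 240, 252],
    [0, 15, 55, 56, 80, 95, 103, 104, 146, 157, 165, 170, 194, 205, 245, 250]]

/-- The action on the five subspaces. -/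
def permT : List (List ℕ) := [[0, 1, 2, 3, 4], [4, 0, 3, 1, 2], [0, 2, 1, 4, 3]]

/-- A generator of the module. -/
def codeV : ℕ := 1

/-- The other generator. -/
def codeW : ℕ := 2

/-- Closure steps: parent, generator. -/
def grpSteps : List (ℕ × ℕ) := [
    (0, 0), (0, 1), (0, 2), (1, 0), (1, 1), (1, 2), (2, 1), (2, 2), (3, 1), (3, 2),
    (4, 1), (4, 2), (5, 1), (5, 2), (6, 1), (6, 2), (7, 1), (7, 2), (8, 1), (8, 2),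
    (9, 1), (9, 2), (10, 2), (11, 1), (11, 2), (12, 1), (13, 1), (13, 2), (14, 1), (14, 2),
    (15, 1), (15, 2), (16, 2), (17, 1), (17, 2), (18, 1), (18, 2), (19, 1), (19, 2), (20, 2),
    (21, 1), (21, 2), (22, 1), (22, 2), (24, 1), (24, 2), (25, 1), (26, 1), (26, 2), (27, 1),
    (27, 2), (28, 1), (28, 2), (29, 1), (29, 2), (30, 2), (31, 1), (31, 2), (32, 1), (32, 2),
    (34, 2), (35, 1), (35, 2), (36, 1), (36, 2), (37, 2), (38, 1), (38, 2), (39, 1), (39, 2),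
    (41, 1), (41, 2), (42, 1), (42, 2), (43, 1), (43, 2), (44, 2), (45, 1), (45, 2), (46, 1),
    (47, 1), (47, 2), (48, 1), (48, 2), (49, 1), (50, 2), (51, 1), (51, 2), (52, 1), (52, 2),
    (53, 2), (54, 1), (54, 2), (55, 1), (55, 2), (57, 1), (57, 2), (58, 1), (58, 2), (59, 1),
    (59, 2), (60, 2), (61, 1), (61, 2), (62, 1), (62, 2), (63, 2), (64, 1), (65, 1), (65, 2),
    (67, 1), (67, 2), (68, 1), (68, 2), (69, 1), (69, 2), (70, 2), (71, 2), (72, 1), (72, 2),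
    (73, 2), (74, 2), (75, 1), (75, 2), (76, 1), (76, 2), (78, 2), (79, 1), (80, 1), (80, 2),
    (81, 1), (81, 2), (82, 1), (83, 1), (84, 1), (85, 1), (85, 2), (86, 1), (86, 2), (87, 1),
    (87, 2), (88, 2), (89, 1), (90, 1), (90, 2), (92, 1), (92, 2), (93, 1), (93, 2), (94, 1),
    (94, 2), (95, 2), (96, 2), (97, 1), (97, 2), (98, 2), (99, 2), (100, 1), (100, 2), (101, 1),
    (101, 2), (103, 1), (103, 2), (104, 2), (106, 1), (106, 2), (108, 1), (108, 2), (109, 1), (109, 2),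
    (110, 2), (111, 2), (112, 2), (114, 2), (115, 1), (115, 2), (116, 1), (116, 2), (118, 1), (118, 2),
    (119, 1), (119, 2), (121, 1), (121, 2), (123, 1), (123, 2), (124, 2), (125, 1), (125, 2), (126, 2),
    (127, 1), (128, 1), (128, 2), (129, 1), (130, 1), (131, 1), (133, 1), (133, 2), (134, 2), (135, 2),
    (136, 1), (136, 2), (137, 1), (138, 2), (139, 2), (141, 1), (141, 2), (143, 2), (144, 2), (145, 2),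
    (146, 2), (147, 2), (149, 2), (150, 1), (150, 2), (151, 2), (153, 1), (153, 2), (154, 1), (154, 2),
    (156, 1), (156, 2), (158, 1), (158, 2), (159, 2), (160, 1), (160, 2), (163, 1), (163, 2), (165, 1),
    (166, 2), (169, 1), (170, 1), (170, 2), (172, 1), (172, 2), (175, 1), (176, 2), (177, 1), (178, 2),
    (179, 2), (180, 2), (183, 2), (185, 2), (186, 2), (188, 2), (189, 2), (191, 2), (195, 2), (196, 2),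
    (197, 2), (199, 1), (200, 1), (201, 1), (203, 1), (203, 2), (204, 1), (204, 2), (207, 2), (209, 2),
    (211, 1), (211, 2), (214, 1), (215, 2), (217, 2), (221, 2), (223, 2), (224, 2), (226, 2), (228, 1),
    (229, 2), (232, 1), (233, 1), (234, 2), (235, 2), (236, 2), (237, 2), (239, 2), (241, 1), (241, 2),
    (243, 1), (244, 2), (246, 2), (250, 1), (252, 2), (253, 2), (254, 2), (255, 2), (258, 2), (261, 2),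
    (263, 2), (265, 1), (267, 2), (273, 2), (275, 2), (280, 2), (282, 2), (284, 2), (295, 2)]

/-- The group on the generators of the module, with the permutations of the five subspaces. -/
def grpT : List ((ℕ × ℕ) × List ℕ) := [
    ((1, 2), [0, 1, 2, 3, 4]), ((32, 148), [0, 1, 2, 3, 4]), ((245, 32), [4, 0, 3, 1, 2]), ((225, 185), [0, 2, 1, 4, 3]),
    ((64, 74), [0, 1, 2, 3, 4]), ((170, 64), [4, 0, 3, 1, 2]), ((1, 3), [0, 2, 1, 4, 3]), ((186, 170), [2, 4, 1, 0, 3]),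
    ((195, 1), [3, 0, 4, 2, 1]), ((194, 195), [4, 3, 0, 2, 1]), ((128, 132), [0, 1, 2, 3, 4]), ((165, 128), [4, 0, 3, 1, 2]),
    ((32, 180), [0, 2, 1, 4, 3]), ((183, 165), [2, 4, 1, 0, 3]), ((213, 32), [3, 0, 4, 2, 1]), ((245, 213), [4, 3, 0, 2, 1]),
    ((225, 88), [0, 1, 2, 3, 4]), ((22, 183), [3, 2, 0, 4, 1]), ((220, 213), [1, 3, 2, 0, 4]), ((72, 245), [1, 4, 2, 3, 0]),
    ((56, 225), [4, 0, 3, 1, 2]), ((189, 72), [2, 1, 4, 3, 0]), ((217, 56), [3, 4, 0, 1, 2]), ((64, 10), [0, 2, 1, 4, 3]),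
    ((190, 56), [2, 4, 1, 0, 3]), ((234, 64), [3, 0, 4, 2, 1]), ((170, 234), [4, 3, 0, 2, 1]), ((63, 190), [3, 2, 0, 4, 1]),
    ((90, 234), [1, 3, 2, 0, 4]), ((16, 170), [1, 4, 2, 3, 0]), ((194, 1), [4, 0, 3, 1, 2]), ((186, 16), [2, 1, 4, 3, 0]),
    ((195, 194), [3, 4, 0, 1, 2]), ((128, 4), [0, 2, 1, 4, 3]), ((88, 63), [1, 3, 4, 2, 0]), ((250, 90), [4, 1, 0, 3, 2]),
    ((224, 16), [0, 1, 3, 4, 2]), ((14, 194), [2, 4, 1, 0, 3]), ((160, 186), [0, 2, 3, 1, 4]), ((13, 195), [2, 3, 1, 4, 0]),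
    ((37, 128), [3, 0, 4, 2, 1]), ((26, 160), [3, 0, 2, 1, 4]), ((206, 13), [1, 2, 3, 4, 0]), ((204, 14), [1, 2, 4, 0, 3]),
    ((165, 37), [4, 3, 0, 2, 1]), ((207, 14), [3, 2, 0, 4, 1]), ((150, 37), [1, 3, 2, 0, 4]), ((18, 165), [1, 4, 2, 3, 0]),
    ((183, 18), [2, 1, 4, 3, 0]), ((213, 245), [3, 4, 0, 1, 2]), ((2, 207), [1, 3, 4, 2, 0]), ((55, 150), [4, 1, 0, 3, 2]),
    ((33, 18), [0, 1, 3, 4, 2]), ((189, 245), [2, 4, 1, 0, 3]), ((161, 183), [0, 2, 3, 1, 4]), ((9, 213), [2, 3, 1, 4, 0]),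
    ((217, 225), [3, 0, 4, 2, 1]), ((22, 161), [3, 0, 2, 1, 4]), ((220, 9), [1, 2, 3, 4, 0]), ((72, 189), [1, 2, 4, 0, 3]),
    ((56, 217), [4, 3, 0, 2, 1]), ((4, 55), [2, 4, 3, 1, 0]), ((179, 33), [2, 0, 4, 1, 3]), ((252, 189), [3, 2, 0, 4, 1]),
    ((55, 161), [4, 0, 1, 2, 3]), ((97, 9), [0, 2, 4, 3, 1]), ((222, 217), [1, 3, 2, 0, 4]), ((146, 22), [4, 3, 1, 0, 2]),
    ((65, 220), [0, 1, 4, 2, 3]), ((41, 72), [3, 1, 0, 2, 4]), ((134, 56), [1, 4, 2, 3, 0]), ((132, 146), [1, 4, 3, 0, 2]),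
    ((157, 65), [4, 0, 1, 2, 3]), ((97, 41), [0, 3, 1, 2, 4]), ((190, 134), [2, 1, 4, 3, 0]), ((65, 252), [0, 3, 2, 4, 1]),
    ((7, 222), [2, 1, 3, 0, 4]), ((234, 170), [3, 4, 0, 1, 2]), ((148, 252), [1, 3, 4, 2, 0]), ((95, 222), [4, 1, 0, 3, 2]),
    ((96, 134), [0, 1, 3, 4, 2]), ((129, 190), [0, 2, 3, 1, 4]), ((176, 234), [2, 3, 1, 4, 0]), ((63, 129), [3, 0, 2, 1, 4]),
    ((90, 176), [1, 2, 3, 4, 0]), ((16, 186), [1, 2, 4, 0, 3]), ((185, 95), [2, 4, 3, 1, 0]), ((7, 96), [2, 0, 4, 1, 3]),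
    ((26, 186), [3, 2, 0, 4, 1]), ((95, 129), [4, 0, 1, 2, 3]), ((224, 176), [0, 2, 4, 3, 1]), ((206, 195), [1, 3, 2, 0, 4]),
    ((103, 63), [4, 3, 1, 0, 2]), ((160, 90), [0, 1, 4, 2, 3]), ((240, 16), [3, 1, 0, 2, 4]), ((204, 194), [1, 4, 2, 3, 0]),
    ((88, 103), [1, 4, 3, 0, 2]), ((250, 160), [4, 0, 1, 2, 3]), ((224, 240), [0, 3, 1, 2, 4]), ((14, 204), [2, 1, 4, 3, 0]),
    ((160, 26), [0, 3, 2, 4, 1]), ((13, 206), [2, 1, 3, 0, 4]), ((37, 165), [3, 4, 0, 1, 2]), ((217, 7), [3, 2, 1, 0, 4]),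
    ((74, 26), [1, 3, 4, 2, 0]), ((230, 95), [3, 4, 2, 0, 1]), ((16, 224), [1, 0, 3, 2, 4]), ((15, 206), [4, 1, 0, 3, 2]),
    ((7, 103), [2, 4, 0, 3, 1]), ((250, 240), [4, 3, 2, 1, 0]), ((192, 204), [0, 1, 3, 4, 2]), ((185, 88), [2, 1, 0, 4, 3]),
    ((240, 250), [3, 4, 2, 0, 1]), ((80, 224), [4, 0, 2, 3, 1]), ((193, 14), [0, 2, 3, 1, 4]), ((90, 160), [1, 0, 4, 3, 2]),
    ((205, 13), [4, 2, 0, 1, 3]), ((179, 37), [2, 3, 1, 4, 0]), ((10, 240), [2, 3, 4, 0, 1]), ((176, 80), [2, 4, 0, 3, 1]),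
    ((207, 193), [3, 0, 2, 1, 4]), ((192, 205), [0, 4, 2, 1, 3]), ((150, 179), [1, 2, 3, 4, 0]), ((80, 74), [4, 1, 3, 2, 0]),
    ((193, 15), [0, 4, 1, 3, 2]), ((12, 192), [3, 0, 1, 4, 2]), ((18, 183), [1, 2, 4, 0, 3]), ((3, 15), [2, 4, 3, 1, 0]),
    ((13, 192), [2, 0, 4, 1, 3]), ((15, 193), [4, 0, 1, 2, 3]), ((33, 179), [0, 2, 4, 3, 1]), ((205, 207), [4, 3, 1, 0, 2]),
    ((161, 150), [0, 1, 4, 2, 3]), ((51, 18), [3, 1, 0, 2, 4]), ((2, 205), [1, 4, 3, 0, 2]), ((33, 51), [0, 3, 1, 2, 4]),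
    ((161, 22), [0, 3, 2, 4, 1]), ((9, 220), [2, 1, 3, 0, 4]), ((195, 13), [3, 2, 1, 0, 4]), ((132, 22), [1, 3, 4, 2, 0]),
    ((12, 15), [3, 4, 2, 0, 1]), ((18, 33), [1, 0, 3, 2, 4]), ((157, 220), [4, 1, 0, 3, 2]), ((13, 205), [2, 4, 0, 3, 1]),
    ((55, 51), [4, 3, 2, 1, 0]), ((97, 72), [0, 1, 3, 4, 2]), ((3, 2), [2, 1, 0, 4, 3]), ((51, 55), [3, 4, 2, 0, 1]),
    ((146, 33), [4, 0, 2, 3, 1]), ((65, 189), [0, 2, 3, 1, 4]), ((150, 161), [1, 0, 4, 3, 2]), ((104, 9), [4, 2, 0, 1, 3]),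
    ((7, 217), [2, 3, 1, 4, 0]), ((4, 51), [2, 3, 4, 0, 1]), ((179, 146), [2, 4, 0, 3, 1]), ((252, 65), [3, 0, 2, 1, 4]),
    ((97, 104), [0, 4, 2, 1, 3]), ((222, 7), [1, 2, 3, 4, 0]), ((146, 132), [4, 1, 3, 2, 0]), ((65, 157), [0, 4, 1, 3, 2]),
    ((41, 97), [3, 0, 1, 4, 2]), ((134, 190), [1, 2, 4, 0, 3]), ((204, 12), [1, 3, 0, 4, 2]), ((165, 18), [4, 1, 2, 0, 3]),
    ((180, 157), [2, 4, 3, 1, 0]), ((161, 55), [0, 4, 1, 3, 2]), ((9, 97), [2, 0, 4, 1, 3]), ((12, 3), [3, 2, 4, 1, 0]),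
    ((18, 51), [1, 3, 0, 4, 2]), ((179, 150), [2, 1, 3, 0, 4]), ((252, 104), [3, 4, 1, 2, 0]), ((96, 7), [0, 2, 4, 3, 1]),
    ((132, 4), [1, 2, 0, 3, 4]), ((104, 252), [4, 3, 1, 0, 2]), ((129, 222), [0, 1, 4, 2, 3]), ((33, 146), [0, 4, 2, 1, 3]),
    ((189, 65), [2, 0, 3, 4, 1]), ((180, 41), [2, 3, 4, 0, 1]), ((230, 134), [3, 1, 0, 2, 4]), ((37, 150), [3, 1, 2, 4, 0]),
    ((148, 104), [1, 4, 3, 0, 2]), ((51, 4), [3, 2, 4, 1, 0]), ((72, 41), [1, 3, 0, 4, 2]), ((157, 180), [4, 2, 3, 0, 1]),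
    ((96, 230), [0, 3, 1, 2, 4]), ((4, 128), [2, 0, 1, 3, 4]), ((41, 180), [3, 2, 4, 1, 0]), ((129, 63), [0, 3, 2, 4, 1]),
    ((220, 157), [1, 4, 0, 2, 3]), ((103, 96), [4, 0, 2, 3, 1]), ((176, 90), [2, 1, 3, 0, 4]), ((213, 9), [3, 2, 1, 0, 4]),
    ((41, 157), [3, 4, 2, 0, 1]), ((134, 96), [1, 0, 3, 2, 4]), ((9, 104), [2, 4, 0, 3, 1]), ((95, 230), [4, 3, 2, 1, 0]),
    ((180, 148), [2, 1, 0, 4, 3]), ((222, 129), [1, 0, 4, 3, 2]), ((80, 176), [4, 2, 0, 1, 3]), ((185, 230), [2, 3, 4, 0, 1]),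
    ((224, 80), [0, 4, 2, 1, 3]), ((103, 88), [4, 1, 3, 2, 0]), ((160, 250), [0, 4, 1, 3, 2]), ((240, 224), [3, 0, 1, 4, 2]),
    ((56, 134), [4, 1, 2, 0, 3]), ((10, 250), [2, 4, 3, 1, 0]), ((129, 95), [0, 4, 1, 3, 2]), ((176, 224), [2, 0, 4, 1, 3]),
    ((134, 230), [1, 3, 0, 4, 2]), ((26, 80), [3, 4, 1, 2, 0]), ((192, 13), [0, 2, 4, 3, 1]), ((88, 185), [1, 2, 0, 3, 4]),
    ((80, 26), [4, 3, 1, 0, 2]), ((193, 206), [0, 1, 4, 2, 3]), ((96, 103), [0, 4, 2, 1, 3]), ((186, 160), [2, 0, 3, 4, 1]),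
    ((12, 204), [3, 1, 0, 2, 4]), ((217, 222), [3, 1, 2, 4, 0]), ((74, 80), [1, 4, 3, 0, 2]), ((230, 185), [3, 2, 4, 1, 0]),
    ((16, 240), [1, 3, 0, 4, 2]), ((250, 10), [4, 2, 3, 0, 1]), ((192, 12), [0, 3, 1, 2, 4]), ((185, 225), [2, 0, 1, 3, 4]),
    ((240, 10), [3, 2, 4, 1, 0]), ((193, 207), [0, 3, 2, 4, 1]), ((90, 250), [1, 4, 0, 2, 3]), ((205, 192), [4, 0, 2, 3, 1]),
    ((190, 129), [2, 0, 3, 4, 1]), ((234, 176), [3, 2, 1, 0, 4]), ((103, 7), [4, 2, 0, 1, 3]), ((204, 192), [1, 0, 3, 2, 4]),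
    ((230, 96), [3, 0, 1, 4, 2]), ((74, 10), [1, 2, 0, 3, 4]), ((15, 12), [4, 3, 2, 1, 0]), ((225, 217), [0, 3, 4, 1, 2]),
    ((10, 74), [2, 1, 0, 4, 3]), ((95, 185), [4, 2, 3, 0, 1]), ((206, 193), [1, 0, 4, 3, 2]), ((234, 90), [3, 1, 2, 4, 0]),
    ((146, 179), [4, 2, 0, 1, 3]), ((170, 186), [4, 2, 1, 3, 0]), ((3, 12), [2, 3, 4, 0, 1]), ((207, 2), [3, 1, 4, 0, 2]),
    ((74, 64), [1, 0, 2, 4, 3]), ((205, 2), [4, 1, 3, 2, 0]), ((14, 207), [2, 3, 0, 1, 4]), ((51, 33), [3, 0, 1, 4, 2]),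
    ((194, 204), [4, 1, 2, 0, 3]), ((22, 146), [3, 4, 1, 2, 0]), ((2, 3), [1, 2, 0, 3, 4]), ((183, 161), [2, 0, 3, 4, 1]),
    ((195, 206), [3, 1, 2, 4, 0]), ((55, 4), [4, 2, 3, 0, 1]), ((3, 1), [2, 0, 1, 3, 4]), ((150, 55), [1, 4, 0, 2, 3]),
    ((104, 97), [4, 0, 2, 3, 1]), ((14, 193), [2, 0, 3, 4, 1]), ((37, 179), [3, 2, 1, 0, 4]), ((72, 97), [1, 0, 3, 2, 4]),
    ((157, 41), [4, 3, 2, 1, 0]), ((1, 195), [0, 3, 4, 1, 2]), ((4, 132), [2, 1, 0, 4, 3]), ((15, 3), [4, 2, 3, 0, 1]),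
    ((220, 65), [1, 0, 4, 3, 2]), ((165, 183), [4, 2, 1, 3, 0]), ((252, 148), [3, 1, 4, 0, 2]), ((132, 128), [1, 0, 2, 4, 3]),
    ((104, 148), [4, 1, 3, 2, 0]), ((189, 252), [2, 3, 0, 1, 4]), ((207, 205), [3, 4, 1, 2, 0]), ((245, 72), [4, 1, 2, 0, 3]),
    ((206, 15), [1, 4, 0, 2, 3]), ((128, 37), [0, 3, 4, 1, 2]), ((63, 103), [3, 4, 1, 2, 0]), ((128, 165), [0, 4, 3, 2, 1]),
    ((148, 180), [1, 2, 0, 3, 4]), ((22, 132), [3, 1, 4, 0, 2]), ((245, 189), [4, 2, 1, 3, 0]), ((183, 22), [2, 3, 0, 1, 4]),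
    ((213, 220), [3, 1, 2, 4, 0]), ((148, 32), [1, 0, 2, 4, 3]), ((180, 32), [2, 0, 1, 3, 4]), ((222, 95), [1, 4, 0, 2, 3]),
    ((32, 213), [0, 3, 4, 1, 2]), ((56, 190), [4, 2, 1, 3, 0]), ((26, 74), [3, 1, 4, 0, 2]), ((88, 225), [1, 0, 2, 4, 3]),
    ((186, 26), [2, 3, 0, 1, 4]), ((170, 16), [4, 1, 2, 0, 3]), ((225, 56), [0, 4, 3, 2, 1]), ((63, 88), [3, 1, 4, 0, 2]),
    ((190, 63), [2, 3, 0, 1, 4]), ((10, 64), [2, 0, 1, 3, 4]), ((64, 170), [0, 4, 3, 2, 1]), ((64, 234), [0, 3, 4, 1, 2]),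
    ((194, 14), [4, 2, 1, 3, 0]), ((2, 1), [1, 0, 2, 4, 3]), ((1, 194), [0, 4, 3, 2, 1]), ((32, 245), [0, 4, 3, 2, 1])]

/-- The position of each possible image. -/
def candIdx : List ℕ := [
    0, 6, 298, 261, 297, 250, 134, 50, 254, 146, 242, 127, 153, 61, 185,
    262, 87, 108, 152, 76, 166, 194, 55, 137, 293, 236, 118, 205, 167, 140,
    125, 216, 128, 39, 143, 101, 257, 37, 99, 246, 263, 234, 129, 107, 29,
    85, 106, 220, 141, 168, 47, 126, 277, 249, 57, 17, 286, 209, 41, 88,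
    1, 12, 284, 299, 52, 135, 175, 130, 40, 179, 102, 258, 69, 160, 192,
    186, 181, 133, 247, 147, 253, 144, 51, 64, 204, 285, 60, 20, 291, 274,
    83, 27, 23, 4, 294, 295, 159, 149, 68, 75, 182, 259, 59, 19, 233,
    104, 244, 218, 212, 123, 198, 113, 34, 96, 211, 287, 115, 84, 28, 226,
    89, 237, 79, 195, 171, 214, 80, 184, 65, 73, 145, 156, 230, 92, 201,
    189, 151, 256, 268, 173, 33, 273, 10, 275, 187, 206, 81, 174, 172, 139,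
    267, 71, 70, 193, 161, 208, 67, 148, 158, 240, 281, 180, 276, 78, 46,
    255, 150, 122, 260, 72, 183, 142, 100, 93, 38, 202, 136, 165, 132, 54,
    163, 44, 11, 265, 289, 5, 241, 26, 119, 190, 207, 82, 62, 117, 154,
    169, 282, 177, 196, 164, 48, 279, 251, 13, 111, 86, 223, 199, 31, 288,
    215, 7, 176, 21, 53, 269, 24, 292, 228, 74, 222, 210, 110, 121, 114,
    124, 213, 225, 30, 296, 9, 248, 8, 138, 32, 252, 162, 43, 231, 95,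
    245, 116, 227, 131, 42, 272, 238, 91, 243, 45, 120, 270, 191, 14, 280,
    49, 103, 22, 217, 56, 58, 264, 188, 18, 157, 283, 197, 66, 36, 200,
    90, 98, 290, 16, 3, 235, 105, 232, 178, 219, 25, 239, 77, 229, 224,
    94, 203, 112, 2, 271, 278, 15, 221, 35, 97, 109, 155, 170, 266, 63]

/-- Distinct permutations occurring. -/
def perm60 : List ℕ := [
    0, 36, 68, 3, 38, 65, 73, 75, 235, 124, 121, 275, 244, 106, 115,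
    172, 42, 43, 162, 18, 34, 188, 19, 71, 185, 176, 62, 111, 76, 21,
    246, 39, 118, 108, 7, 61, 125, 41, 8, 69, 179, 243, 17, 103, 167,
    22, 170, 105, 64, 113, 2, 35, 163, 123, 116, 241, 183, 9, 67, 109]

/-- The matrix of the element of order five. -/
def aImg : List (List ℤ) := [
    [0, 0, 0, -4, 0, 4, 0, 0, 0, 0, 0, 0, 0, 0, 4, 0, 0, 4, 0, 0, 0, 0, 0, 0],
    [-4, -4, -4, 0, 0, 0, 0, 0, 0, 0, 0, 0, 0, 0, 0, 0, 0, 0, 0, 0, 0, 0, 0, 4],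
    [4, 4, -4, 0, 0, 0, 0, 0, 0, 0, 0, 0, 0, 0, 0, 0, 0, 0, 0, 0, 0, 0, 0, 4],
    [0, 0, 0, -4, 0, -4, 0, 0, 0, 0, 0, 0, 0, 0, 4, 0, 0, -4, 0, 0, 0, 0, 0, 0],
    [0, 0, 0, 0, 0, 0, 4, 4, 0, 0, 0, 0, 0, 0, 0, 0, 0, 0, 0, -4, 0, 4, 0, 0],
    [-4, 4, 4, 0, 0, 0, 0, 0, 0, 0, 0, 0, 0, 0, 0, 0, 0, 0, 0, 0, 0, 0, 0, 4],
    [0, 0, 0, 0, 0, 0, -4, -4, 0, 0, 0, 0, 0, 0, 0, 0, 0, 0, 0, -4, 0, 4, 0, 0],
    [0, 0, 0, 0, 0, 0, 4, -4, 0, 0, 0, 0, 0, 0, 0, 0, 0, 0, 0, -4, 0, -4, 0, 0],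
    [0, 0, 0, 0, 0, 0, 0, 0, 0, -4, -4, 0, 0, 0, 0, 4, 0, 0, 0, 0, -4, 0, 0, 0],
    [0, 0, 0, 0, 0, 0, 0, 0, 4, 0, 0, 4, 4, 0, 0, 0, 0, 0, -4, 0, 0, 0, 0, 0],
    [0, 0, 0, 0, 0, 0, 0, 0, 4, 0, 0, -4, 4, 0, 0, 0, 0, 0, 4, 0, 0, 0, 0, 0],
    [0, 0, 0, 0, 0, 0, 0, 0, -4, 0, 0, -4, 4, 0, 0, 0, 0, 0, -4, 0, 0, 0, 0, 0],
    [0, 0, 0, 0, 0, 0, 0, 0, 4, 0, 0, -4, -4, 0, 0, 0, 0, 0, -4, 0, 0, 0, 0, 0],
    [0, 0, 0, 0, 4, 0, 0, 0, 0, 0, 0, 0, 0, -4, 0, 0, -4, 0, 0, 0, 0, 0, -4, 0],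
    [0, 0, 0, -4, 0, -4, 0, 0, 0, 0, 0, 0, 0, 0, -4, 0, 0, 4, 0, 0, 0, 0, 0, 0],
    [0, 0, 0, 0, 0, 0, 0, 0, 0, 4, -4, 0, 0, 0, 0, -4, 0, 0, 0, 0, -4, 0, 0, 0],
    [0, 0, 0, 0, 4, 0, 0, 0, 0, 0, 0, 0, 0, 4, 0, 0, -4, 0, 0, 0, 0, 0, 4, 0],
    [-4, 4, -4, 0, 0, 0, 0, 0, 0, 0, 0, 0, 0, 0, 0, 0, 0, 0, 0, 0, 0, 0, 0, -4],
    [0, 0, 0, 0, 0, 0, 0, 0, 0, 4, -4, 0, 0, 0, 0, 4, 0, 0, 0, 0, 4, 0, 0, 0],
    [0, 0, 0, 0, 4, 0, 0, 0, 0, 0, 0, 0, 0, 4, 0, 0, 4, 0, 0, 0, 0, 0, -4, 0],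
    [0, 0, 0, 0, 0, 0, 0, 0, 0, 4, 4, 0, 0, 0, 0, 4, 0, 0, 0, 0, -4, 0, 0, 0],
    [0, 0, 0, 0, -4, 0, 0, 0, 0, 0, 0, 0, 0, 4, 0, 0, -4, 0, 0, 0, 0, 0, -4, 0],
    [0, 0, 0, 0, 0, 0, 4, -4, 0, 0, 0, 0, 0, 0, 0, 0, 0, 0, 0, 4, 0, 4, 0, 0],
    [0, 0, 0, 4, 0, -4, 0, 0, 0, 0, 0, 0, 0, 0, 4, 0, 0, 4, 0, 0, 0, 0, 0, 0]]

/-- A second octad. -/
def maskP : ℕ := 6889680

/-- The index of the moving element. -/
def moveG : ℕ := 0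

/-- An element of the kernel. -/
def moveA : List ℕ × ℕ := ([0, 1, 2, 3, 22, 5, 7, 6, 18, 10, 9, 12, 11, 16, 14, 20, 13, 17, 8, 21, 15, 19, 4, 23], 3421328)

/-- Its image. -/
def moveB : List ℕ × ℕ := ([0, 1, 2, 3, 8, 5, 20, 15, 4, 21, 19, 13, 16, 11, 14, 7, 12, 17, 22, 10, 6, 9, 18, 23], 6337856)

/-- The sign of the image. -/
def moveS : ℕ := 0

/-- The sixteen permutations of the kernel. -/
def kTabs : List (List ℕ) := [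
    [0, 1, 2, 3, 4, 5, 6, 7, 8, 9, 10, 11, 12, 13, 14, 15, 16, 17, 18, 19, 20, 21, 22, 23],
    [0, 1, 2, 3, 6, 5, 4, 22, 20, 12, 11, 10, 9, 19, 14, 18, 21, 17, 15, 13, 8, 16, 7, 23],
    [0, 1, 2, 3, 7, 5, 22, 4, 15, 11, 12, 9, 10, 21, 14, 8, 19, 17, 20, 16, 18, 13, 6, 23],
    [0, 1, 2, 3, 8, 5, 20, 15, 4, 21, 19, 13, 16, 11, 14, 7, 12, 17, 22, 10, 6, 9, 18, 23],
    [0, 1, 2, 3, 9, 5, 12, 11, 21, 4, 22, 7, 6, 15, 14, 13, 20, 17, 19, 18, 16, 8, 10, 23],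
    [0, 1, 2, 3, 10, 5, 11, 12, 19, 22, 4, 6, 7, 20, 14, 16, 15, 17, 21, 8, 13, 18, 9, 23],
    [0, 1, 2, 3, 11, 5, 10, 9, 13, 7, 6, 4, 22, 8, 14, 21, 18, 17, 16, 20, 19, 15, 12, 23],
    [0, 1, 2, 3, 12, 5, 9, 10, 16, 6, 7, 22, 4, 18, 14, 19, 8, 17, 13, 15, 21, 20, 11, 23],
    [0, 1, 2, 3, 13, 5, 19, 21, 11, 15, 20, 8, 18, 4, 14, 9, 22, 17, 12, 6, 10, 7, 16, 23],
    [0, 1, 2, 3, 15, 5, 18, 8, 7, 13, 16, 21, 19, 9, 14, 4, 10, 17, 6, 12, 22, 11, 20, 23],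
    [0, 1, 2, 3, 16, 5, 21, 19, 12, 20, 15, 18, 8, 22, 14, 10, 4, 17, 11, 7, 9, 6, 13, 23],
    [0, 1, 2, 3, 18, 5, 15, 20, 22, 19, 21, 16, 13, 12, 14, 6, 11, 17, 4, 9, 7, 10, 8, 23],
    [0, 1, 2, 3, 19, 5, 13, 16, 10, 18, 8, 20, 15, 6, 14, 12, 7, 17, 9, 4, 11, 22, 21, 23],
    [0, 1, 2, 3, 20, 5, 8, 18, 6, 16, 13, 19, 21, 10, 14, 22, 9, 17, 7, 11, 4, 12, 15, 23],
    [0, 1, 2, 3, 21, 5, 16, 13, 9, 8, 18, 15, 20, 7, 14, 11, 6, 17, 10, 22, 12, 4, 19, 23],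
    [0, 1, 2, 3, 22, 5, 7, 6, 18, 10, 9, 12, 11, 16, 14, 20, 13, 17, 8, 21, 15, 19, 4, 23]]

/-- The thirty-two code words of the kernel. -/
def kMasks : List ℕ := [0, 6889680, 4038912, 5538256, 832080, 6656640, 3216208, 5780352, 6100032, 3421328, 6337856, 628112, 5350928, 3704512, 7079696, 337856, 7903248, 1161408, 4536592, 2890176, 7612992, 1903248, 4819776, 2141072, 2460752, 5024896, 1584464, 7409024, 2702848, 4202192, 1351424, 8241104]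

end Cfsg.Agent.Leech.Sec5
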