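import Cfsg.Agent.Lib.Leech.Co1Cent.Kernel
import Cfsg.Agent.Lib.CosetEnum.Pack

/-!
# Words in monomial maps and the sextet map, evaluated on coordinate lists

Equality of two words is decided on the frame; the action modulo 2 on the octad lattice of a word in
the centralizer is given by eight coded columns.
-/

set_option autoImplicit false
set_option maxRecDepth 100000

namespace Cfsg.Agent.Leech.Sec5

open Cfsg Matrix Cfsg.Agent.Reflections Cfsg.Agent.Leech.Co1Cent
open Cfsg.Agent.Golay (idx pt toSet octadO idx_lt pt_idx idx_pt Tab tab_permOf permOf isPermTab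
  checkAut inCode idTab)

/-- A letter: the sextet map, or an inverse permutation table with a sign mask. -/
abbrev Step : Type := Option (List ℕ × ℕ)

/-- A letter is an automorphism. -/
def okStep : Step → Bool
  | none => true
  | some (li, c) => isPermTab li && checkAut li && inCode c

/-- A letter stabilizes the octad. -/
def okC : Step → Bool
  | none => true
  | some (li, _) =>
    (List.range 24).all fun i => octadO.testBit (li.getD i 0) == octadO.testBit i

/-- The automorphism of a letter. -/
noncomputable def stepEl : Step → Co0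
  | none => xi
  | some (li, c) =>
    if h : isPermTab li = true ∧ checkAut li = true ∧ inCode c = true then
      mono ((⟨permOf li h.1, (tab_permOf h.1).mem_M24 h.2.1⟩ : M24)⁻¹)
        (Golay.mem_supports_iff.2 ⟨c, h.2.2, rfl⟩ : toSet c ∈ code)
    else 1

/-- The coordinate map of a letter. -/
def stepFun : Step → (GolayPt → ℤ) → GolayPt → ℤ
  | none => xiFun
  | some (li, c) => monVec li c

/-- The sum of the coordinates on each tetrad. -/
def tetSums (l : List ℤ) : List ℤ :=
  (List.range 6).map fun k => ∑ i ∈ Finset.range 24, if tetTab.getD i 0 = k then l.getD i 0 else 0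

/-- The sextet map from the tetrad sums. -/
def xiCoord (l sums : List ℤ) (i : ℕ) : ℤ :=
  (if tetTab.getD i 0 = 0 then -1 else 1) * (2 * l.getD i 0 - sums.getD (tetTab.getD i 0) 0) / 2

/-- A letter on coordinate lists. -/
def stepL : Step → List ℤ → List ℤ
  | none, l => (List.range 24).map fun i => xiCoord l (tetSums l) i
  | some (li, c), l => (List.range 24).map fun i =>
    if c.testBit i then -l.getD (idx (pt (li.getD i 0))) 0 else l.getD (idx (pt (li.getD i 0))) 0

theorem vecL_map (f : GolayPt → ℤ) : vecL ((List.range 24).map fun i => f (pt i)) = f := by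
  funext p
  have h : idx p < ((List.range 24).map fun i => f (pt i)).length := by simp [idx_lt p]
  rw [vecL, List.getD_eq_getElem _ _ h]
  simp [pt_idx]

theorem tetOf_lt : ∀ p : GolayPt, tetOf p < 6 := by decide +kernel

theorem xiCoord_eq (l : List ℤ) (p : GolayPt) :
    xiCoord l (tetSums l) (idx p) = xiFun (vecL l) p := by
  have hs : (tetSums l).getD (tetOf p) 0 = ∑ q : GolayPt, if tetOf q = tetOf p then vecL l q else 0 := by
    have h : tetOf p < (tetSums l).length := by simp [tetSums, tetOf_lt p]
    rw [List.getD_eq_getElem _ _ h]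
    simp only [tetSums, List.getElem_map, List.getElem_range]
    exact Finset.sum_nbij' (fun i => pt i) idx (fun _ _ => Finset.mem_univ _)
      (fun q _ => Finset.mem_range.2 (idx_lt q)) (fun i hi => idx_pt (Finset.mem_range.1 hi))
      (fun q _ => pt_idx q)
      (fun i hi => by simp only [tetOf, vecL, idx_pt (Finset.mem_range.1 hi)]; congr)
  show _ = xiA (vecL l) p / 2
  rw [xiCoord, show tetTab.getD (idx p) 0 = tetOf p from rfl, hs]
  congr 1
  show _ = ∑ q, xiEnt p q * vecL l q
  rw [mul_sub, Finset.mul_sum]
  simp only [xiEnt, mul_assoc, sub_mul, mul_sub, Finset.sum_sub_distrib]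
  congr 1
  · simp [vecL]
  · exact Finset.sum_congr rfl fun q _ => by split_ifs <;> simp

theorem vecL_stepL (s : Step) (l : List ℤ) : vecL (stepL s l) = stepFun s (vecL l) := by
  match s with
  | none =>
    rw [stepL, ← vecL_map (stepFun none (vecL l))]
    refine congrArg vecL (List.map_congr_left fun i hi => ?_)
    have := xiCoord_eq l (pt i)
    rwa [idx_pt (List.mem_range.1 hi)] at this
  | some (li, c) =>
    rw [stepL, ← vecL_map (stepFun (some (li, c)) (vecL l))]
    refine congrArg vecL (List.map_congr_left fun i hi => ?_)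
    simp only [stepFun, monVec, Golay.mem_toSet, idx_pt (List.mem_range.1 hi), vecL]

theorem coe_stepEl (s : Step) (h : okStep s = true) (v : leechLattice) :
    ((stepEl s • v : leechLattice) : GolayPt → ℤ) = stepFun s (v : GolayPt → ℤ) := by
  match s with
  | none => exact coe_xi_smul v
  | some (li, c) =>
    simp only [okStep, Bool.and_eq_true] at h
    obtain ⟨⟨h1, h2⟩, h3⟩ := h
    rw [stepEl, dif_pos ⟨h1, h2, h3⟩, coe_mono_smul]
    funext p
    show signedPerm _ _ _ p = monVec li c _ p
    have e : ((⟨permOf li h1, (tab_permOf h1).mem_M24 h2⟩ : M24)⁻¹).1.symm p =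
        pt (li.getD (idx p) 0) := by
      show permOf li h1 p = _
      exact (tab_permOf h1).apply p
    simp only [signedPerm, monVec, e]

/-- The element of a word. -/
noncomputable def wordEl (w : List Step) : Co0 := (w.map stepEl).prod

/-- A word on coordinate lists. -/
def evalL (w : List Step) (l : List ℤ) : List ℤ := w.foldr stepL l

theorem wordEl_append (w w' : List Step) : wordEl (w ++ w') = wordEl w * wordEl w' := by
  rw [wordEl, List.map_append, List.prod_append]
  rfl

theorem coe_wordEl : ∀ (w : List Step), w.all okStep = true → ∀ (v : leechLattice) (l : List ℤ),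
    (v : GolayPt → ℤ) = vecL l →
      ((wordEl w • v : leechLattice) : GolayPt → ℤ) = vecL (evalL w l)
  | [], _, v, l, hv => by rw [wordEl, List.map_nil, List.prod_nil, one_smul]; exact hv
  | s :: r, h, v, l, hv => by
    rw [List.all_cons, Bool.and_eq_true] at h
    rw [wordEl, List.map_cons, List.prod_cons, mul_smul, coe_stepEl s h.1]
    show stepFun s ((wordEl r • v : leechLattice) : GolayPt → ℤ) = vecL (stepL s (evalL r l))
    rw [coe_wordEl r h.2 v l hv, vecL_stepL]

/-- A frame vector as a list. -/
def frameL (i : ℕ) : List ℤ := (List.range 24).map fun j => if j = i then 8 else 0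

theorem vecL_frameL : ∀ p q : GolayPt, (Pi.single p 8 : GolayPt → ℤ) q = vecL (frameL (idx p)) q := by
  decide +kernel

/-- Evaluate an integer before use. -/
noncomputable def forceZ {α : Type} (x : ℤ) (f : ℤ → α) : α :=
  Int.rec (motive := fun _ => α) (fun n => CosetEnum.forceNat n fun m => f (Int.ofNat m))
    (fun n => CosetEnum.forceNat n fun m => f (Int.negSucc m)) x

theorem forceZ_eq {α : Type} (x : ℤ) (f : ℤ → α) : forceZ x f = f x := by
  cases x <;> simp [forceZ]

/-- Evaluate a list before use. -/
noncomputable def forceL {α : Type} : List ℤ → (List ℤ → α) → α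
  | [], k => k []
  | a :: r, k => forceZ a fun a' => forceL r fun r' => k (a' :: r')

theorem forceL_eq {α : Type} : ∀ (l : List ℤ) (k : List ℤ → α), forceL l k = k l
  | [], k => rfl
  | a :: r, k => by rw [forceL, forceZ_eq, forceL_eq r]

/-- A word applied one evaluated letter at a time. -/
noncomputable def evalK {α : Type} : List Step → List ℤ → (List ℤ → α) → α
  | [], l, k => k l
  | s :: r, l, k => evalK r l fun m => forceL (stepL s m) k

theorem evalK_eq {α : Type} : ∀ (w : List Step) (l : List ℤ) (k : List ℤ → α),
    evalK w l k = k (evalL w l)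
  | [], l, k => rfl
  | s :: r, l, k => by rw [evalK, evalK_eq r, forceL_eq]; rfl

/-- Two words agree on the frame. -/
noncomputable def sameW (w w' : List Step) : Bool :=
  (List.range 24).all fun i => forceL (frameL i) fun v =>
    evalK w v fun a => evalK w' v fun b => a == b

theorem wordEl_ext {w w' : List Step} (h : w.all okStep = true) (h' : w'.all okStep = true)
    (he : sameW w w' = true) : wordEl w = wordEl w' := by
  refine ext_frame fun p => Subtype.ext ?_
  have hv : (frame p : GolayPt → ℤ) = vecL (frameL (idx p)) := funext (vecL_frameL p)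
  rw [coe_wordEl w h _ _ hv, coe_wordEl w' h' _ _ hv]
  have := List.all_eq_true.1 he _ (List.mem_range.2 (idx_lt p))
  rw [forceL_eq, evalK_eq, evalK_eq] at this
  exact congrArg vecL (eq_of_beq this)

theorem wordEl_ne {w w' : List Step} (h : w.all okStep = true) (h' : w'.all okStep = true)
    (i : Fin 24) (j : Fin 24)
    (he : vecL (evalL w (frameL i.val)) (pt j.val) ≠ vecL (evalL w' (frameL i.val)) (pt j.val)) :
    wordEl w ≠ wordEl w' := by
  intro e
  have hv : (frame (pt i.val) : GolayPt → ℤ) = vecL (frameL i.val) := by
    have := funext (vecL_frameL (pt i.val))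
    rwa [idx_pt i.isLt] at this
  have h1 := coe_wordEl w h _ _ hv
  rw [e, coe_wordEl w' h' _ _ hv] at h1
  exact he (congrFun h1 (pt j.val)).symm

theorem stepEl_mem (s : Step) (h : okStep s = true) (hC : okC s = true) : stepEl s ∈ C0 := by
  match s with
  | none => exact (Co1Cent.gen 3).2
  | some (li, c) =>
    simp only [okStep, Bool.and_eq_true] at h
    obtain ⟨⟨h1, h2⟩, h3⟩ := h
    rw [stepEl, dif_pos ⟨h1, h2, h3⟩]
    refine commute_eps_mono _ _ fun p => ?_
    show permOf li h1 p ∈ octO ↔ p ∈ octO
    rw [(tab_permOf h1).apply p]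
    have := List.all_eq_true.1 hC (idx p) (List.mem_range.2 (idx_lt p))
    simp only [beq_iff_eq] at this
    have hlt : li.getD (idx p) 0 < 24 := (tab_permOf h1).lt (idx_lt p)
    simp only [octO, Golay.mem_toSet, idx_pt hlt, this]

theorem wordEl_mem : ∀ (w : List Step), w.all okStep = true → w.all okC = true → wordEl w ∈ C0
  | [], _, _ => by rw [wordEl, List.map_nil, List.prod_nil]; exact one_mem _
  | s :: r, h, hC => by
    rw [List.all_cons, Bool.and_eq_true] at h hC
    rw [wordEl, List.map_cons, List.prod_cons]
    exact mul_mem (stepEl_mem s h.1 hC.1) (wordEl_mem r h.2 hC.2)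

/-- The coded columns describe a word modulo 2 and act linearly. -/
theorem act_wordEl {w : List Step} (h : w.all okStep = true) {g : ↥C0} (hg : g.1 = wordEl w)
    {cols : List ℕ}
    (hc : ∀ i j : I8, psi (vecL (evalL w (hTab.getD (num j) []))) i = colMat cols i j)
    (hl : ∀ x : Fin 256, ∀ i : I8, (∑ j, colMat cols i j * vb x.val j) = vb (actN cols x.val) i)
    {x : ℕ} (hx : x < 256) : act (rep8 g) (vb x) = vb (actN cols x) := by
  funext i
  rw [← hl ⟨x, hx⟩ i]
  show ∑ j, matG g i j * vb x j = _
  refine Finset.sum_congr rfl fun j _ => ?_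
  congr 1
  rw [← hc i j]
  show psi (res g ⟨hv j, hv_mem j⟩ : GolayPt → ℤ) i = _
  rw [coe_res, hg, coe_wordEl w h _ _ (rfl : ((toL ⟨hv j, hv_mem j⟩ : leechLattice) : GolayPt → ℤ) = _)]

/-- The word for the change of all signs. -/
def negW : List Step := [some (idTab, 16777215)]

theorem neg_facts : negW.all okStep = true ∧
    ∀ p q : GolayPt, vecL (evalL negW (frameL (idx p))) q = -(Pi.single p 8 : GolayPt → ℤ) q := by
  decide +kernel

theorem wordEl_negW : wordEl negW = negOne := by
  refine ext_frame fun p => Subtype.ext ?_
  rw [coe_wordEl negW neg_facts.1 _ _ (funext (vecL_frameL p)), negOne_smul]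
  exact funext (neg_facts.2 p)

end Cfsg.Agent.Leech.Sec5
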